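import Cfsg.Agent.AutPSL.Bridge
import Cfsg.Agent.Classical.LinearOrder

/-!
The outer automorphism group of `PSL_n(q)`.
-/

set_option autoImplicit false

open Matrix

namespace CfsgLib.AutPSL

variable {F : Type*} [Field F] {n : ℕ}

/-- The automorphism group of a finite field with `p ^ f` elements is cyclic of order `f`. -/
theorem nonempty_ringAut_equiv [Fintype F] {p f : ℕ} [Fact p.Prime] (hf : 1 ≤ f)
    (hF : Fintype.card F = p ^ f) : Nonempty (RingAut F ≃* Multiplicative (ZMod f)) := by
  haveI : CharP F p := by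
    obtain ⟨c, hc⟩ := CharP.exists F
    haveI := hc
    obtain ⟨⟨k, hk⟩, hcp, hcard⟩ := FiniteField.card F c
    have hpow : p ∣ c ^ k := by
      have : c ^ k = p ^ f := hcard.symm.trans hF
      rw [this]; exact dvd_pow_self p (by omega)
    rwa [(Nat.prime_dvd_prime_iff_eq (Fact.out) hcp).mp ((Fact.out : p.Prime).dvd_of_dvd_pow hpow)]
  letI := ZMod.algebra F p
  let T : RingAut F ≃* Gal(F/ZMod p) :=
    { toFun := fun σ => AlgEquiv.ofRingEquiv (f := σ) fun x => by
        exact RingHom.congr_fun (Subsingleton.elim ((σ : F →+* F).comp (algebraMap (ZMod p) F)) (algebraMap (ZMod p) F)) x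
      invFun := fun e => e.toRingEquiv
      left_inv := fun σ => RingEquiv.ext fun _ => rfl
      right_inv := fun e => AlgEquiv.ext fun _ => rfl
      map_mul' := fun σ τ => AlgEquiv.ext fun _ => rfl }
  have hrank : Module.finrank (ZMod p) F = f := by
    have h := Module.card_eq_pow_finrank (K := ZMod p) (V := F)
    rw [hF, ZMod.card] at h
    exact ((Nat.pow_right_injective (Fact.out : p.Prime).two_le) h).symm
  have hcard : Nat.card Gal(F/ZMod p) = Nat.card (Multiplicative (ZMod f)) := by
    rw [IsGalois.card_aut_eq_finrank, hrank, Nat.card_congr Multiplicative.toAdd, Nat.card_zmod]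
  exact ⟨T.trans (mulEquivOfCyclicCardEq hcard)⟩

/-- The diagonal matrix with one entry `a`, others `1`. -/
def diagOne [NeZero n] : Fˣ →* GL (Fin n) F :=
  Units.map ((Matrix.diagonalRingHom (Fin n) F).toMonoidHom.comp (MonoidHom.mulSingle (fun _ : Fin n => F) 0))

theorem det_diagOne [NeZero n] (a : Fˣ) : Matrix.GeneralLinearGroup.det (diagOne (n := n) a) = a := by
  apply Units.ext
  show (Matrix.diagonal (Pi.mulSingle (0 : Fin n) (a : F))).det = (a : F)
  rw [Matrix.det_diagonal, Finset.prod_pi_mulSingle', if_pos (Finset.mem_univ _)]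

theorem det_toGL (k : Matrix.SpecialLinearGroup (Fin n) F) :
    Matrix.GeneralLinearGroup.det (Matrix.SpecialLinearGroup.toGL k) = 1 := Units.ext k.2

theorem det_scalar_pow (u : Fˣ) :
    Matrix.GeneralLinearGroup.det (Matrix.GeneralLinearGroup.scalar (Fin n) u) = u ^ n :=
  Units.ext (by simp)

theorem eq_scalar_of_smul_one [NeZero n] {g : GL (Fin n) F} {c : F}
    (h : (g : Matrix (Fin n) (Fin n) F) = c • 1) : ∃ u : Fˣ, g = Matrix.GeneralLinearGroup.scalar (Fin n) u := by
  have hc : c ≠ 0 := by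
    rintro rfl
    have := Matrix.GeneralLinearGroup.det_ne_zero g
    rw [h, zero_smul, Matrix.det_zero] at this
    exact this rfl
  exact ⟨Units.mk0 c hc, Units.ext (by rw [h]; ext a b; rcases eq_or_ne a b with rfl | hab <;> simp [*])⟩

theorem exists_eq_toGL {g : GL (Fin n) F} (h : Matrix.GeneralLinearGroup.det g = 1) :
    ∃ k : Matrix.SpecialLinearGroup (Fin n) F, g = Matrix.SpecialLinearGroup.toGL k :=
  ⟨⟨(g : Matrix (Fin n) (Fin n) F), congrArg Units.val h⟩, Units.ext rfl⟩

theorem semiAut_mul_scalar [Finite F] (g : GL (Fin n) F) (u : Fˣ) :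
    semiAut (g * Matrix.GeneralLinearGroup.scalar (Fin n) u) (RingEquiv.refl F) = semiAut g (RingEquiv.refl F) := by
  have h : semiAut (Matrix.GeneralLinearGroup.scalar (Fin n) u) (RingEquiv.refl F) = 1 := by
    refine semiAut_scalar (c := (u : F)) ?_
    ext a b; rcases eq_or_ne a b with rfl | hab <;> simp [*]
  simp only [← innDiagHom_apply] at h ⊢
  rw [map_mul, h, mul_one]

section Finite

variable [Finite F]

/-- The kernel of `GL_n → Aut(PSL_n)` is the centre. -/
theorem ker_innDiagHom [NeZero n] (hn : 2 ≤ n) : (innDiagHom n F).ker = Subgroup.center (GL (Fin n) F) := by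
  rw [Matrix.GeneralLinearGroup.center_eq_range_scalar]
  ext g
  constructor
  · intro h
    obtain ⟨c, hc⟩ := (semiAut_eq_one hn h).2
    obtain ⟨u, hu⟩ := eq_scalar_of_smul_one hc
    exact ⟨u, hu.symm⟩
  · rintro ⟨u, rfl⟩
    rw [MonoidHom.mem_ker, innDiagHom_apply, ← one_mul (Matrix.GeneralLinearGroup.scalar (Fin n) u), semiAut_mul_scalar,
      semiAut_one]

/-- The inner-diagonal group is `PGL_n`. -/
theorem nonempty_inndiag_equiv_PGL (hn : 2 ≤ n) :
    Nonempty (↥(Cfsg.inndiagPSL n F) ≃* Matrix.ProjGenLinGroup (Fin n) F) := by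
  have : NeZero n := ⟨by omega⟩
  exact ⟨((MulEquiv.subgroupCongr inndiag_eq_range).trans (QuotientGroup.quotientKerEquivRange _).symm).trans
    (QuotientGroup.quotientMulEquivOfEq (ker_innDiagHom hn))⟩

/-- The inner-diagonal group in `Out`: cyclic of order `gcd(n, q-1)`. -/
theorem inndiag_mod_inn (hn : 2 ≤ n) {A : Type*} [Group A]
    (Φ : MulAut (Matrix.ProjectiveSpecialLinearGroup (Fin n) F) →* A) (hΦ : Function.Surjective Φ)
    (hker : Φ.ker = Cfsg.inndiagPSL n F) :
    ∃ φ : Cfsg.Out (Matrix.ProjectiveSpecialLinearGroup (Fin n) F) →* A,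
      Function.Surjective φ ∧ IsCyclic φ.ker ∧ Nat.card φ.ker = Nat.gcd n (Nat.card F - 1) := by
  classical
  have : NeZero n := ⟨by omega⟩
  have hle : Cfsg.Inn (Matrix.ProjectiveSpecialLinearGroup (Fin n) F) ≤ Φ.ker := hker ▸ inn_le_inndiag
  refine ⟨QuotientGroup.lift _ Φ hle, fun a => ?_, ?_⟩
  · obtain ⟨b, rfl⟩ := hΦ a
    exact ⟨QuotientGroup.mk b, rfl⟩
  let P : Subgroup Fˣ := (powMonoidHom n : Fˣ →* Fˣ).range
  let ψ : Fˣ →* Cfsg.Out (Matrix.ProjectiveSpecialLinearGroup (Fin n) F) :=
    (QuotientGroup.mk' _).comp ((innDiagHom n F).comp diagOne)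
  have hrange : ψ.range = (QuotientGroup.lift _ Φ hle).ker := by
    ext x
    constructor
    · rintro ⟨a, rfl⟩
      have : semiAut (diagOne a) (RingEquiv.refl F) ∈ Φ.ker := by
        rw [hker, inndiag_eq_range]; exact ⟨_, rfl⟩
      exact this
    · intro hx
      obtain ⟨b, rfl⟩ := QuotientGroup.mk_surjective x
      have hb : b ∈ Φ.ker := hx
      rw [hker, inndiag_eq_range] at hb
      obtain ⟨g, rfl⟩ := hb
      refine ⟨Matrix.GeneralLinearGroup.det g, ?_⟩
      obtain ⟨k, hk⟩ := exists_eq_toGL (g := (diagOne (Matrix.GeneralLinearGroup.det g))⁻¹ * g)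
        (by rw [map_mul, map_inv, det_diagOne, inv_mul_cancel])
      show QuotientGroup.mk (innDiagHom n F (diagOne (Matrix.GeneralLinearGroup.det g))) = QuotientGroup.mk (innDiagHom n F g)
      rw [QuotientGroup.eq, ← map_inv, ← map_mul, hk, innDiagHom_apply, semiAut_toGL]
      exact ⟨_, rfl⟩
  have hkerψ : ψ.ker = P := by
    ext a
    constructor
    · intro ha
      obtain ⟨x, hx⟩ := (QuotientGroup.eq_one_iff _).mp (MonoidHom.mem_ker.mp ha)
      obtain ⟨k, rfl⟩ := QuotientGroup.mk_surjective x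
      rw [← semiAut_toGL, ← innDiagHom_apply] at hx
      have h1 : (innDiagHom n F) ((Matrix.SpecialLinearGroup.toGL k)⁻¹ * diagOne a) = 1 := by
        rw [map_mul, map_inv, hx]
        exact inv_mul_cancel _
      have h2 := MonoidHom.mem_ker.mpr h1
      rw [ker_innDiagHom hn, Matrix.GeneralLinearGroup.center_eq_range_scalar] at h2
      obtain ⟨u, hu⟩ := h2
      refine ⟨u, ?_⟩
      have := congrArg Matrix.GeneralLinearGroup.det hu
      rwa [det_scalar_pow, map_mul, map_inv, det_toGL, inv_one, one_mul, det_diagOne] at this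
    · rintro ⟨u, rfl⟩
      apply MonoidHom.mem_ker.mpr
      apply (QuotientGroup.eq_one_iff _).mpr
      obtain ⟨k, hk⟩ := exists_eq_toGL (g := diagOne (u ^ n) * Matrix.GeneralLinearGroup.scalar (Fin n) u⁻¹)
        (by rw [map_mul, det_diagOne, det_scalar_pow, ← mul_pow, mul_inv_cancel, one_pow])
      refine ⟨QuotientGroup.mk k, ?_⟩
      show _ = semiAut (diagOne (u ^ n)) (RingEquiv.refl F)
      rw [← semiAut_toGL, ← hk, semiAut_mul_scalar]
  have e := (MulEquiv.subgroupCongr hrange).symm.trans (QuotientGroup.quotientKerEquivRange ψ).symm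
  refine ⟨?_, ?_⟩
  · rw [e.isCyclic]
    exact isCyclic_of_surjective _ (QuotientGroup.mk'_surjective ψ.ker)
  · rw [Nat.card_congr e.toEquiv, ← Subgroup.index_eq_card, hkerψ, IsCyclic.index_powMonoidHom_range, Nat.card_units,
      Nat.gcd_comm]

/-- `1` or inverse-transpose. -/
noncomputable def twist (e : Multiplicative (ZMod 2)) : MulAut (Matrix.ProjectiveSpecialLinearGroup (Fin n) F) :=
  if e = 1 then 1 else invTrans

omit [Finite F] in
theorem twist_one : (twist 1 : MulAut (Matrix.ProjectiveSpecialLinearGroup (Fin n) F)) = 1 := if_pos rfl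

theorem multZMod_two (e : Multiplicative (ZMod 2)) : e = 1 ∨ e = Multiplicative.ofAdd 1 := by
  revert e; decide

omit [Finite F] in
theorem twist_ofAdd_one : (twist (Multiplicative.ofAdd 1) : MulAut (Matrix.ProjectiveSpecialLinearGroup (Fin n) F)) = invTrans :=
  if_neg (by decide)

omit [Finite F] in
theorem twist_mul (a b : Multiplicative (ZMod 2)) :
    (twist (a * b) : MulAut (Matrix.ProjectiveSpecialLinearGroup (Fin n) F)) = twist a * twist b := by
  rcases multZMod_two a with rfl | rfl <;> rcases multZMod_two b with rfl | rfl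
  · rw [one_mul, twist_one, one_mul]
  · rw [one_mul, twist_one, one_mul]
  · rw [mul_one, twist_one, mul_one]
  · rw [show Multiplicative.ofAdd (1 : ZMod 2) * Multiplicative.ofAdd 1 = 1 from by decide, twist_one, twist_ofAdd_one,
      invTrans_mul_self]

omit [Finite F] in
theorem twist_mul_semiAut (e : Multiplicative (ZMod 2)) (g : GL (Fin n) F) (σ : F ≃+* F) :
    ∃ g' : GL (Fin n) F, twist e * semiAut g σ = semiAut g' σ * twist e := by
  rcases multZMod_two e with rfl | rfl
  · exact ⟨g, by rw [twist_one, one_mul, mul_one]⟩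
  · exact ⟨dualGL g, by rw [twist_ofAdd_one, invTrans_mul_semiAut]⟩

theorem exists_twist (hn : 2 ≤ n) (β : MulAut (Matrix.ProjectiveSpecialLinearGroup (Fin n) F)) :
    ∃ (d : RingAut F × Multiplicative (ZMod 2)) (g : GL (Fin n) F), β = semiAut g d.1 * twist d.2 := by
  obtain ⟨g, σ, h | h⟩ := exists_semi_or_semi_invTrans hn β
  · exact ⟨(σ, 1), g, by rw [twist_one, mul_one]; exact h⟩
  · exact ⟨(σ, Multiplicative.ofAdd 1), g, by rw [twist_ofAdd_one]; exact h⟩

theorem twist_unique (hn : 3 ≤ n) {g h : GL (Fin n) F} {d e : RingAut F × Multiplicative (ZMod 2)}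
    (he : semiAut g d.1 * twist d.2 = semiAut h e.1 * twist e.2) : d = e := by
  obtain ⟨σ, a⟩ := d
  obtain ⟨τ, b⟩ := e
  rcases multZMod_two a with rfl | rfl <;> rcases multZMod_two b with rfl | rfl <;>
    simp only [twist_one, twist_ofAdd_one, mul_one] at he
  · rw [(semiAut_eq_semiAut (by omega) he).1]
  · exact absurd he (semiAut_ne_semiAut_mul_invTrans hn _ _ _ _)
  · exact absurd he.symm (semiAut_ne_semiAut_mul_invTrans hn _ _ _ _)
  · rw [(semiAut_eq_semiAut (by omega) (mul_right_cancel he)).1]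

/-- Field and graph part of an automorphism. -/
noncomputable def outData (hn : 3 ≤ n) :
    MulAut (Matrix.ProjectiveSpecialLinearGroup (Fin n) F) →* RingAut F × Multiplicative (ZMod 2) :=
  MonoidHom.mk' (fun β => (exists_twist (by omega) β).choose) fun α β => by
    obtain ⟨g, hα⟩ := (exists_twist (show 2 ≤ n by omega) α).choose_spec
    obtain ⟨h, hβ⟩ := (exists_twist (show 2 ≤ n by omega) β).choose_spec
    obtain ⟨k, hαβ⟩ := (exists_twist (show 2 ≤ n by omega) (α * β)).choose_spec
    obtain ⟨h', hh'⟩ := twist_mul_semiAut (exists_twist (show 2 ≤ n by omega) α).choose.2 h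
      (exists_twist (show 2 ≤ n by omega) β).choose.1
    refine twist_unique hn (g := k) (h := g * glMap (exists_twist (show 2 ≤ n by omega) α).choose.1 h') ?_
    rw [← hαβ]
    conv_lhs => rw [hα, hβ]
    rw [mul_assoc, ← mul_assoc (twist _), hh', mul_assoc (semiAut h' _), ← twist_mul, ← mul_assoc, semiAut_mul]
    rfl

theorem outData_apply (hn : 3 ≤ n) (g : GL (Fin n) F) (d : RingAut F × Multiplicative (ZMod 2)) :
    outData hn (semiAut g d.1 * twist d.2) = d := by
  obtain ⟨h, hh⟩ := (exists_twist (show 2 ≤ n by omega) (semiAut g d.1 * twist d.2)).choose_spec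
  exact (twist_unique hn hh).symm

theorem outData_surjective (hn : 3 ≤ n) : Function.Surjective (outData (F := F) hn) :=
  fun d => ⟨semiAut (1 : GL (Fin n) F) d.1 * twist d.2, outData_apply hn _ d⟩

theorem ker_outData (hn : 3 ≤ n) : (outData (F := F) hn).ker = Cfsg.inndiagPSL n F := by
  rw [inndiag_eq_range]
  ext β
  constructor
  · intro hβ
    obtain ⟨g, hg⟩ := (exists_twist (show 2 ≤ n by omega) β).choose_spec
    have h1 : (exists_twist (show 2 ≤ n by omega) β).choose = 1 := hβ
    rw [h1] at hg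
    refine ⟨g, ?_⟩
    rw [hg, innDiagHom_apply, Prod.snd_one, twist_one, mul_one]
    rfl
  · rintro ⟨g, rfl⟩
    have := outData_apply hn g 1
    rw [Prod.snd_one, twist_one, mul_one] at this
    exact this

/-- Field part of an automorphism, `n = 2`. -/
noncomputable def fieldData : MulAut (Matrix.ProjectiveSpecialLinearGroup (Fin 2) F) →* RingAut F :=
  MonoidHom.mk' (fun β => (exists_semi_two β).choose_spec.choose) fun α β => by
    have hα := (exists_semi_two α).choose_spec.choose_spec
    have hβ := (exists_semi_two β).choose_spec.choose_spec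
    have hαβ := (exists_semi_two (α * β)).choose_spec.choose_spec
    have := hαβ.symm.trans (congrArg₂ (· * ·) hα hβ)
    rw [semiAut_mul] at this
    exact (semiAut_eq_semiAut le_rfl this).1

theorem fieldData_apply (g : GL (Fin 2) F) (σ : F ≃+* F) : fieldData (semiAut g σ) = σ :=
  ((semiAut_eq_semiAut le_rfl (exists_semi_two (semiAut g σ)).choose_spec.choose_spec).1).symm

theorem fieldData_surjective : Function.Surjective (fieldData (F := F)) :=
  fun σ => ⟨semiAut (1 : GL (Fin 2) F) σ, fieldData_apply _ σ⟩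

theorem ker_fieldData : (fieldData (F := F)).ker = Cfsg.inndiagPSL 2 F := by
  rw [inndiag_eq_range]
  ext β
  constructor
  · intro hβ
    obtain ⟨g, σ, rfl⟩ := exists_semi_two β
    rw [MonoidHom.mem_ker, fieldData_apply] at hβ
    subst hβ
    exact ⟨g, rfl⟩
  · rintro ⟨g, rfl⟩
    exact fieldData_apply g _

theorem card_eq_card_mul_ker {G A : Type*} [Group G] [Group A] (Φ : G →* A) (hΦ : Function.Surjective Φ) :
    Nat.card G = Nat.card A * Nat.card Φ.ker := by
  rw [Subgroup.card_eq_card_quotient_mul_card_subgroup Φ.ker,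
    Nat.card_congr (QuotientGroup.quotientKerEquivOfSurjective Φ hΦ).toEquiv]

end Finite

end CfsgLib.AutPSL
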