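import Cfsg.Agent.AutPSL.ClassBasics
import Mathlib.FieldTheory.Fixed
import Mathlib.FieldTheory.Finite.GaloisField
import Mathlib.LinearAlgebra.Matrix.GeneralLinearGroup.Projective

/-!
Field automorphisms of prime order of `PSL_n`: classes, centralisers and splitting.
-/

set_option autoImplicit false

open Matrix

namespace CfsgLib.AutPSL

variable {F : Type*} [Field F] [Finite F] {n : ℕ}

theorem scalar_inj [NeZero n] {u v : Fˣ}
    (h : Matrix.GeneralLinearGroup.scalar (Fin n) u = Matrix.GeneralLinearGroup.scalar (Fin n) v) : u = v := by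
  have := congrArg (fun g : GL (Fin n) F => (g : Matrix (Fin n) (Fin n) F) 0 0) h
  exact Units.ext (by simpa using this)

theorem innDiag_eq_iff (hn : 2 ≤ n) {g h : GL (Fin n) F} :
    semiAut g (RingEquiv.refl F) = semiAut h (RingEquiv.refl F) ↔
      ∃ u : Fˣ, h = g * Matrix.GeneralLinearGroup.scalar (Fin n) u := by
  have : NeZero n := ⟨by omega⟩
  constructor
  · intro e
    have h1 : g⁻¹ * h ∈ (innDiagHom n F).ker := by
      rw [MonoidHom.mem_ker, map_mul, map_inv, innDiagHom_apply, innDiagHom_apply, e, inv_mul_cancel]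
    rw [ker_innDiagHom hn, Matrix.GeneralLinearGroup.center_eq_range_scalar] at h1
    obtain ⟨u, hu⟩ := h1
    exact ⟨u, by rw [hu, mul_inv_cancel_left]⟩
  · rintro ⟨u, rfl⟩
    rw [semiAut_mul_scalar]

/-- A semilinear element of the same prime order is conjugate to the standard one. -/
theorem exists_conj_of_orderOf (hn : 2 ≤ n) {r : ℕ} (hr : r.Prime) {σ : RingAut F} (hσ : orderOf σ = r)
    {g : GL (Fin n) F} (hg : orderOf (semiAut g σ) = r) :
    ∃ k : GL (Fin n) F, semiAut g σ =
      semiAut k (RingEquiv.refl F) * semiAut (1 : GL (Fin n) F) σ * (semiAut k (RingEquiv.refl F))⁻¹ := by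
  have : NeZero n := ⟨by omega⟩
  have hσr : σ ^ r = 1 := hσ ▸ pow_orderOf_eq_one σ
  have hinj := injective_pow_of_orderOf hσ
  have h1 : semiAut (twistProd σ g r) (1 : RingAut F) = 1 := by
    rw [← hσr, ← semiAut_pow]
    exact hg ▸ pow_orderOf_eq_one _
  obtain ⟨c, hc⟩ := (innDiag_eq_iff hn (g := 1)).mp (semiAut_one.trans h1.symm)
  rw [one_mul] at hc
  have hfix : Units.map (σ : F →* F) c = c := by
    have e1 := twistProd_add σ g r 1
    have e2 := twistProd_succ σ g r
    rw [e1, twistProd_one, hσr, glMap_one_aut, hc, glMap_scalar, scalar_comm] at e2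
    exact (scalar_inj (mul_left_cancel e2)).symm
  obtain ⟨u, hu⟩ := exists_autNorm_eq σ hσr hinj hr.pos c hfix
  have h2 : twistProd σ (Matrix.GeneralLinearGroup.scalar (Fin n) u⁻¹ * g) r = 1 := by
    rw [twistProd_scalar_mul, hc, ← map_mul, map_inv, hu, inv_mul_cancel, map_one]
  obtain ⟨k, hk⟩ := exists_glMap_eq σ hσr hinj _ h2 hr.pos
  refine ⟨k, ?_⟩
  have hinv : (semiAut k (RingEquiv.refl F))⁻¹ = semiAut k⁻¹ (RingEquiv.refl F) := (map_inv (innDiagHom n F) k).symm
  rw [hinv]
  show semiAut g σ = semiAut k (1 : RingAut F) * semiAut (1 : GL (Fin n) F) σ * semiAut k⁻¹ (1 : RingAut F)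
  rw [semiAut_mul', semiAut_mul', glMap_one_aut, mul_one, one_mul, mul_one]
  have hk' : k * glMap σ k⁻¹ = Matrix.GeneralLinearGroup.scalar (Fin n) u⁻¹ * g := by
    rw [map_inv, mul_inv_eq_iff_eq_mul, hk]
  rw [hk', scalar_comm, semiAut_eq_inndiag_mul g, semiAut_eq_inndiag_mul (g * _), semiAut_mul_scalar]

theorem orderOf_eq_iff_isConjUnder_field (hn : 2 ≤ n) {x δ : MulAut (Matrix.ProjectiveSpecialLinearGroup (Fin n) F)}
    (hx : Cfsg.IsFieldAutClassPSL x) {r : ℕ} (hr : r.Prime) (hxr : orderOf x = r)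
    (hδ : δ ∈ Cfsg.inndiagPSL n F) (hord : orderOf (δ * x) = r) :
    Cfsg.IsConjUnder (Cfsg.inndiagPSL n F) x (δ * x) := by
  obtain ⟨σ, -, h, hh, rfl⟩ := fieldClass_normalForm hn hx
  rw [orderOf_conj', orderOf_semiAut_one hn] at hxr
  rw [isConjUnder_iff_conj hh]
  have hd : h⁻¹ * δ * h ∈ Cfsg.inndiagPSL n F := mul_mem (mul_mem (inv_mem hh) hδ) hh
  rw [inndiag_eq_range] at hd
  obtain ⟨g, hg⟩ := hd
  have e : h⁻¹ * (δ * (h * semiAut (1 : GL (Fin n) F) σ * h⁻¹)) * h = semiAut g σ := by
    rw [semiAut_eq_inndiag_mul g σ, ← innDiagHom_apply, hg]; group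
  have hord' : orderOf (semiAut g σ) = r := by
    rw [← e, ← hord]
    simpa using orderOf_conj' h⁻¹ (δ * (h * semiAut (1 : GL (Fin n) F) σ * h⁻¹))
  obtain ⟨k, hk⟩ := exists_conj_of_orderOf hn hr hxr hord'
  rw [e]
  exact ⟨_, inndiag_eq_range (F := F) ▸ ⟨k, rfl⟩, hk⟩

/-! ### Centraliser and splitting -/

section FixedField

variable (σ : RingAut F)

/-- The fixed field. -/
noncomputable abbrev fixField : Subfield F := FixedPoints.subfield (Subgroup.zpowers σ) F

omit [Finite F] in
theorem mem_fixField {x : F} : x ∈ fixField σ ↔ σ x = x := by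
  refine ⟨fun h => h ⟨σ, Subgroup.mem_zpowers σ⟩, fun h g => ?_⟩
  have hmem : (g : RingAut F) ∈ MulAction.stabilizer (RingAut F) x :=
    (Subgroup.zpowers_le (H := MulAction.stabilizer (RingAut F) x)).mpr h g.2
  exact hmem

theorem card_fixField_pow {r : ℕ} (hσ : orderOf σ = r) : Nat.card (fixField σ) ^ r = Nat.card F := by
  classical
  haveI : Finite (RingAut F) := Finite.of_injective (fun τ : RingAut F => (τ : F → F)) DFunLike.coe_injective
  letI := Fintype.ofFinite (Subgroup.zpowers σ)
  letI := Fintype.ofFinite F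
  letI := Fintype.ofFinite (fixField σ)
  haveI : FaithfulSMul (Subgroup.zpowers σ) F :=
    ⟨fun h => Subtype.ext (RingEquiv.ext h)⟩
  have h := FixedPoints.finrank_eq_card (Subgroup.zpowers σ) F
  rw [← Nat.card_eq_fintype_card, Nat.card_zpowers, hσ] at h
  rw [Nat.card_eq_fintype_card (α := F), Module.card_eq_pow_finrank (K := fixField σ) (V := F), h,
    Nat.card_eq_fintype_card]

/-- The inclusion of `GL_n` of the fixed field. -/
noncomputable def fixGL : GL (Fin n) (fixField σ) →* GL (Fin n) F :=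
  Matrix.GeneralLinearGroup.map (fixField σ).subtype

/-- The units of the fixed field. -/
noncomputable def fixUnits : Subgroup Fˣ := (Units.map ((fixField σ).subtype : fixField σ →* F)).range

omit [Finite F] in
theorem mem_fixUnits {u : Fˣ} : u ∈ fixUnits σ ↔ Units.map (σ : F →* F) u = u := by
  constructor
  · rintro ⟨v, rfl⟩
    exact Units.ext ((mem_fixField σ).mp (v : fixField σ).2)
  · intro h
    have h1 : σ (u : F) = u := congrArg Units.val h
    exact ⟨Units.mk0 ⟨(u : F), (mem_fixField σ).mpr h1⟩ (fun e => u.ne_zero (congrArg Subtype.val e)), Units.ext rfl⟩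

omit [Finite F] in
theorem mem_range_fixGL {g : GL (Fin n) F} : g ∈ (fixGL (n := n) σ).range ↔ glMap σ g = g := by
  constructor
  · rintro ⟨k, rfl⟩
    refine Units.ext ?_
    ext a b
    exact (mem_fixField σ).mp ((k : Matrix (Fin n) (Fin n) (fixField σ)) a b).2
  · intro h
    have hmem : ∀ a b, (g : Matrix (Fin n) (Fin n) F) a b ∈ fixField σ := fun a b =>
      (mem_fixField σ).mpr (congrFun (congrFun (congrArg (fun k : GL (Fin n) F => (k : Matrix (Fin n) (Fin n) F)) h) a) b)
    let M : Matrix (Fin n) (Fin n) (fixField σ) := Matrix.of fun a b => ⟨_, hmem a b⟩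
    have hdet : M.det ≠ 0 := by
      intro e
      have e2 := congrArg (fixField σ).subtype e
      rw [RingHom.map_det, map_zero] at e2
      exact Matrix.GeneralLinearGroup.det_ne_zero g e2
    exact ⟨Matrix.GeneralLinearGroup.mkOfDetNeZero M hdet, Units.ext rfl⟩

theorem centralizer_std_eq (hn : 2 ≤ n) {r : ℕ} (hr : r.Prime) (hσ : orderOf σ = r) :
    Cfsg.inndiagPSL n F ⊓ Subgroup.centralizer {semiAut (1 : GL (Fin n) F) σ} =
      ((innDiagHom n F).comp (fixGL σ)).range := by
  have : NeZero n := ⟨by omega⟩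
  rw [MonoidHom.range_comp, inndiag_eq_range]
  have hcomm : ∀ g : GL (Fin n) F,
      semiAut g (RingEquiv.refl F) * semiAut (1 : GL (Fin n) F) σ = semiAut (1 : GL (Fin n) F) σ * semiAut g (RingEquiv.refl F) ↔
        semiAut g (RingEquiv.refl F) = semiAut (glMap σ g) (RingEquiv.refl F) := fun g => by
    show semiAut g (1 : RingAut F) * semiAut 1 σ = semiAut 1 σ * semiAut g (1 : RingAut F) ↔ _
    rw [semiAut_mul', semiAut_mul', glMap_one_aut, mul_one, one_mul, one_mul, mul_one]
    refine ⟨fun e => (semiAut_eq_semiAut hn e).2, fun e => ?_⟩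
    rw [semiAut_eq_inndiag_mul g σ, e, ← semiAut_eq_inndiag_mul]
  ext x
  constructor
  · rintro ⟨⟨g, rfl⟩, hc⟩
    obtain ⟨c, hc'⟩ := (innDiag_eq_iff hn).mp ((hcomm g).mp (Subgroup.mem_centralizer_singleton_iff.mp hc))
    have hσr : σ ^ r = 1 := hσ ▸ pow_orderOf_eq_one σ
    have hiter : ∀ k : ℕ, glMap (σ ^ k) g = g * Matrix.GeneralLinearGroup.scalar (Fin n) (autNorm σ k c) := by
      intro k
      induction k with
      | zero =>
        rw [pow_zero, glMap_one_aut, show autNorm σ 0 c = 1 from rfl, map_one, mul_one]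
      | succ k ih =>
        rw [pow_succ', glMap_mul_aut, ih, map_mul, hc', glMap_scalar, mul_assoc, ← map_mul]
        rfl
    have hN : autNorm σ r c = 1 := by
      have := hiter r
      rw [hσr, glMap_one_aut, left_eq_mul, ← map_one (Matrix.GeneralLinearGroup.scalar (Fin n) (R := F))] at this
      exact scalar_inj this
    obtain ⟨w, hw⟩ := exists_div_eq_of_autNorm σ hσr (injective_pow_of_orderOf hσ) hr.pos c hN
    refine ⟨g * Matrix.GeneralLinearGroup.scalar (Fin n) w, (mem_range_fixGL σ).mpr ?_, ?_⟩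
    · rw [map_mul, hc', glMap_scalar, mul_assoc, ← map_mul, hw]
    · rw [innDiagHom_apply, semiAut_mul_scalar]; rfl
  · rintro ⟨g, hg, rfl⟩
    refine Subgroup.mem_inf.mpr ⟨⟨g, rfl⟩, Subgroup.mem_centralizer_singleton_iff.mpr ?_⟩
    exact (hcomm g).mpr (by rw [(mem_range_fixGL σ).mp hg])

theorem ker_innDiag_fixGL (hn : 2 ≤ n) :
    ((innDiagHom n F).comp (fixGL σ)).ker = Subgroup.center (GL (Fin n) (fixField σ)) := by
  have : NeZero n := ⟨by omega⟩
  rw [← MonoidHom.comap_ker, ker_innDiagHom hn, Matrix.GeneralLinearGroup.center_eq_range_scalar,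
    Matrix.GeneralLinearGroup.center_eq_range_scalar]
  ext g
  constructor
  · rintro ⟨u, hu⟩
    have h0 := congrArg (fun k : GL (Fin n) F => (k : Matrix (Fin n) (Fin n) F)) hu
    have hval : ∀ a b, (((g : Matrix (Fin n) (Fin n) (fixField σ)) a b : fixField σ) : F) =
        if a = b then (u : F) else 0 := fun a b => by
      have := congrFun (congrFun h0 a) b
      rcases eq_or_ne a b with rfl | hab
      · rw [if_pos rfl]; simpa [fixGL] using this.symm
      · rw [if_neg hab]; simpa [fixGL, hab] using this.symm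
    have hu' : (u : F) ∈ fixField σ := by
      have := hval 0 0; rw [if_pos rfl] at this; rw [← this]; exact Subtype.coe_prop _
    refine ⟨Units.mk0 ⟨(u : F), hu'⟩ (fun e => u.ne_zero (congrArg Subtype.val e)), Units.ext ?_⟩
    ext a b
    rw [hval]
    rcases eq_or_ne a b with rfl | hab <;> simp [*]
  · rintro ⟨u, rfl⟩
    refine ⟨Units.map ((fixField σ).subtype : fixField σ →* F) u, Units.ext ?_⟩
    ext a b
    rcases eq_or_ne a b with rfl | hab <;> simp [fixGL, *]

theorem det_range_fixGL [NeZero n] :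
    (fixGL (n := n) σ).range.map Matrix.GeneralLinearGroup.det = fixUnits σ := by
  ext u
  constructor
  · rintro ⟨g, hg, rfl⟩
    refine (mem_fixUnits σ).mpr (Units.ext ?_)
    show σ (g : Matrix (Fin n) (Fin n) F).det = (g : Matrix (Fin n) (Fin n) F).det
    rw [← det_map_ringEquiv]
    exact congrArg (fun k : GL (Fin n) F => (k : Matrix (Fin n) (Fin n) F).det) ((mem_range_fixGL σ).mp hg)
  · intro hu
    refine ⟨diagOne u, (mem_range_fixGL σ).mpr (Units.ext ?_), det_diagOne u⟩
    have h1 : σ (u : F) = u := congrArg Units.val ((mem_fixUnits σ).mp hu)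
    rw [coe_glMap]
    show (Matrix.diagonal (Pi.mulSingle (0 : Fin n) (u : F))).map σ = Matrix.diagonal (Pi.mulSingle 0 (u : F))
    rw [Matrix.diagonal_map (map_zero σ)]
    congr 1
    funext i
    rcases eq_or_ne i 0 with rfl | hi <;> simp [*]

theorem index_fixUnits : (fixUnits σ).index = (Nat.card F - 1) / (Nat.card (fixField σ) - 1) := by
  have hinj : Function.Injective (Units.map ((fixField σ).subtype : fixField σ →* F)) :=
    Units.map_injective Subtype.val_injective
  have hc : Nat.card (fixUnits σ) = Nat.card (fixField σ) - 1 := by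
    rw [fixUnits, ← Nat.card_congr (MonoidHom.ofInjective hinj).toEquiv, Nat.card_units]
  have h := Subgroup.card_mul_index (fixUnits σ)
  rw [Nat.card_units, hc] at h
  have hpos : 0 < Nat.card (fixField σ) - 1 := by
    have := Finite.one_lt_card (α := fixField σ); omega
  rw [← h, Nat.mul_div_cancel_left _ hpos]

end FixedField

/-- Centraliser and class splitting of a field automorphism of prime order. -/
theorem field_centralizer [Fintype F] {p f : ℕ} [Fact p.Prime] (hf : 1 ≤ f) (hF : Fintype.card F = p ^ f) (hn : 2 ≤ n)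
    {x : MulAut (Matrix.ProjectiveSpecialLinearGroup (Fin n) F)} (hx : Cfsg.IsFieldAutClassPSL x)
    {r : ℕ} (hr : r.Prime) (hxr : orderOf x = r)
    (F₀ : Type*) [Field F₀] [Fintype F₀] (hF₀ : Fintype.card F₀ = p ^ (f / r)) :
    r ∣ f ∧ Nonempty (↥(Cfsg.inndiagPSL n F ⊓ Subgroup.centralizer {x}) ≃* Matrix.ProjGenLinGroup (Fin n) F₀) ∧
      Cfsg.splitClassCount (Cfsg.inndiagPSL n F) (Cfsg.Inn (Matrix.ProjectiveSpecialLinearGroup (Fin n) F)) x =
        Nat.gcd n ((p ^ f - 1) / (p ^ (f / r) - 1)) := by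
  classical
  have : NeZero n := ⟨by omega⟩
  obtain ⟨σ, -, h, hh, rfl⟩ := fieldClass_normalForm hn hx
  rw [orderOf_conj', orderOf_semiAut_one hn] at hxr
  obtain ⟨eA⟩ := nonempty_ringAut_equiv (F := F) hf hF
  have hrf : r ∣ f := by
    have h1 := orderOf_dvd_natCard σ
    rwa [hxr, Nat.card_congr eA.toEquiv, Nat.card_congr Multiplicative.toAdd, Nat.card_zmod] at h1
  have hK : Nat.card (fixField σ) = p ^ (f / r) := by
    have h1 := card_fixField_pow σ hxr
    rw [Nat.card_eq_fintype_card (α := F), hF] at h1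
    apply Nat.pow_left_injective hr.ne_zero
    show Nat.card (fixField σ) ^ r = (p ^ (f / r)) ^ r
    rw [h1, ← pow_mul, Nat.div_mul_cancel hrf]
  refine ⟨hrf, ?_, ?_⟩
  · obtain ⟨e1⟩ := centralizer_conj_equiv (H := Cfsg.inndiagPSL n F) (x := semiAut (1 : GL (Fin n) F) σ) hh
    letI := Fintype.ofFinite (fixField σ)
    let eK : fixField σ ≃+* F₀ := FiniteField.ringEquivOfCardEq (K := fixField σ) (K' := F₀)
      (by rw [← Nat.card_eq_fintype_card, hK, hF₀])
    let eGL : GL (Fin n) (fixField σ) ≃* GL (Fin n) F₀ := Units.mapEquiv eK.mapMatrix.toMulEquiv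
    have hcenter : (Subgroup.center (GL (Fin n) (fixField σ))).map eGL.toMonoidHom = Subgroup.center (GL (Fin n) F₀) := by
      ext g
      constructor
      · rintro ⟨k, hk, rfl⟩
        exact Subgroup.mem_center_iff.mpr fun y => by
          obtain ⟨y, rfl⟩ := eGL.surjective y
          show eGL y * eGL k = eGL k * eGL y
          rw [← map_mul, ← map_mul, Subgroup.mem_center_iff.mp hk y]
      · intro hg
        refine ⟨eGL.symm g, Subgroup.mem_center_iff.mpr fun y => eGL.injective ?_, eGL.apply_symm_apply g⟩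
        rw [map_mul, map_mul, eGL.apply_symm_apply, Subgroup.mem_center_iff.mp hg]
    exact ⟨e1.trans <| (MulEquiv.subgroupCongr (centralizer_std_eq σ hn hr hxr)).trans <|
      (QuotientGroup.quotientKerEquivRange _).symm.trans <|
      (QuotientGroup.quotientMulEquivOfEq (ker_innDiag_fixGL σ hn)).trans <|
      QuotientGroup.congr _ _ eGL hcenter⟩
  · rw [splitClassCount_conj hh, splitClassCount_eq _ _ inn_le_inndiag, centralizer_std_eq σ hn hr hxr,
      MonoidHom.range_comp, relIndex_inn_sup hn _ _ (det_range_fixGL σ), index_fixUnits, hK,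
      Nat.card_eq_fintype_card, hF]

end CfsgLib.AutPSL
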