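import Cfsg.Agent.AutPSL.Semilinear
import Mathlib.Algebra.Ring.Aut
import Mathlib.LinearAlgebra.LinearIndependent.Lemmas
import Mathlib.LinearAlgebra.Basis.VectorSpace
import Mathlib.LinearAlgebra.Dimension.Finrank

/-!
Hilbert 90 for `GL_n` with respect to a cyclic group of field automorphisms, and norms.
-/

set_option autoImplicit false

open Matrix

namespace CfsgLib.AutPSL

variable {F : Type*} [Field F] {n : ℕ}

theorem glMap_mul_aut (σ τ : RingAut F) (g : GL (Fin n) F) : glMap (σ * τ) g = glMap σ (glMap τ g) :=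
  Units.ext (by ext a b; rfl)

theorem glMap_one_aut (g : GL (Fin n) F) : glMap (1 : RingAut F) g = g :=
  Units.ext (by ext a b; rfl)

/-- `g · σ(g) · ⋯ · σ^{k-1}(g)`. -/
def twistProd (σ : RingAut F) (g : GL (Fin n) F) : ℕ → GL (Fin n) F
  | 0 => 1
  | k + 1 => g * glMap σ (twistProd σ g k)

theorem twistProd_zero (σ : RingAut F) (g : GL (Fin n) F) : twistProd σ g 0 = 1 := rfl

theorem twistProd_succ (σ : RingAut F) (g : GL (Fin n) F) (k : ℕ) :
    twistProd σ g (k + 1) = g * glMap σ (twistProd σ g k) := rfl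

theorem twistProd_one (σ : RingAut F) (g : GL (Fin n) F) : twistProd σ g 1 = g := by
  rw [twistProd_succ, twistProd_zero, map_one, mul_one]

theorem twistProd_add (σ : RingAut F) (g : GL (Fin n) F) (a b : ℕ) :
    twistProd σ g (a + b) = twistProd σ g a * glMap (σ ^ a) (twistProd σ g b) := by
  induction a with
  | zero => rw [Nat.zero_add, twistProd_zero, one_mul, pow_zero, glMap_one_aut]
  | succ a ih => rw [Nat.succ_add, twistProd_succ, ih, map_mul, twistProd_succ, mul_assoc, pow_succ', glMap_mul_aut]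

theorem scalar_comm (u : Fˣ) (g : GL (Fin n) F) :
    Matrix.GeneralLinearGroup.scalar (Fin n) u * g = g * Matrix.GeneralLinearGroup.scalar (Fin n) u := by
  have h : Matrix.GeneralLinearGroup.scalar (Fin n) u ∈ Subgroup.center (GL (Fin n) F) := by
    rw [Matrix.GeneralLinearGroup.center_eq_range_scalar]; exact ⟨u, rfl⟩
  exact (Subgroup.mem_center_iff.mp h g).symm

theorem glMap_scalar (σ : F ≃+* F) (u : Fˣ) :
    glMap σ (Matrix.GeneralLinearGroup.scalar (Fin n) u) =
      Matrix.GeneralLinearGroup.scalar (Fin n) (Units.map (σ : F →* F) u) :=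
  Units.ext (by
    ext a b
    rcases eq_or_ne a b with rfl | hab <;> simp [coe_glMap, *])

/-- The norm `u · σ(u) · ⋯ · σ^{r-1}(u)` on units. -/
def autNorm (σ : RingAut F) : ℕ → (Fˣ →* Fˣ)
  | 0 => 1
  | k + 1 => MonoidHom.id Fˣ * (Units.map (σ : F →* F)).comp (autNorm σ k)

theorem twistProd_scalar_mul (σ : RingAut F) (u : Fˣ) (g : GL (Fin n) F) (k : ℕ) :
    twistProd σ (Matrix.GeneralLinearGroup.scalar (Fin n) u * g) k =
      Matrix.GeneralLinearGroup.scalar (Fin n) (autNorm σ k u) * twistProd σ g k := by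
  induction k with
  | zero => rw [twistProd_zero, twistProd_zero, mul_one]; exact (map_one _).symm
  | succ k ih =>
    rw [twistProd_succ, ih, map_mul, glMap_scalar, twistProd_succ, mul_assoc, ← mul_assoc g, ← scalar_comm, mul_assoc,
      ← mul_assoc, ← map_mul]
    rfl

/-- `v ↦ g σ(v)`. -/
def semiVec (σ : RingAut F) (g : GL (Fin n) F) (v : Fin n → F) : Fin n → F :=
  (g : Matrix (Fin n) (Fin n) F) *ᵥ fun i => σ (v i)

theorem semiVec_iterate (σ : RingAut F) (g : GL (Fin n) F) (k : ℕ) (v : Fin n → F) :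
    (semiVec σ g)^[k] v = (twistProd σ g k : Matrix (Fin n) (Fin n) F) *ᵥ fun i => (σ ^ k) (v i) := by
  induction k with
  | zero => rw [pow_zero, twistProd_zero, Units.val_one, Matrix.one_mulVec]; rfl
  | succ k ih =>
    rw [Function.iterate_succ_apply', ih, semiVec]
    have : (fun i => σ (((twistProd σ g k : Matrix (Fin n) (Fin n) F) *ᵥ fun j => (σ ^ k) (v j)) i)) =
        (twistProd σ g k : Matrix (Fin n) (Fin n) F).map σ *ᵥ fun j => (σ ^ (k + 1)) (v j) := by
      funext i
      simp only [Matrix.mulVec, dotProduct, Matrix.map_apply, map_sum, map_mul, pow_succ']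
      rfl
    rw [this, Matrix.mulVec_mulVec, twistProd_succ, Units.val_mul, coe_glMap]

theorem semiVec_add (σ : RingAut F) (g : GL (Fin n) F) (v w : Fin n → F) :
    semiVec σ g (v + w) = semiVec σ g v + semiVec σ g w := by
  rw [semiVec, semiVec, semiVec, ← Matrix.mulVec_add]
  congr 1
  funext i
  simp

theorem semiVec_smul (σ : RingAut F) (g : GL (Fin n) F) (c : F) (v : Fin n → F) :
    semiVec σ g (c • v) = σ c • semiVec σ g v := by
  rw [semiVec, semiVec, ← Matrix.mulVec_smul]
  congr 1
  funext i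
  simp

/-- Hilbert 90 for `GL_n`: a cocycle of a cyclic group of field automorphisms is a coboundary. -/
theorem exists_glMap_eq (σ : RingAut F) {r : ℕ} (hσr : σ ^ r = 1)
    (hinj : Function.Injective fun i : Fin r => σ ^ (i : ℕ)) (g : GL (Fin n) F) (hg : twistProd σ g r = 1)
    (hr : 0 < r) : ∃ h : GL (Fin n) F, g * glMap σ h = h := by
  classical
  let T : (Fin n → F) →+ (Fin n → F) := AddMonoidHom.mk' (semiVec σ g) (semiVec_add σ g)
  let avg : F → (Fin n → F) → (Fin n → F) := fun c v =>
    ∑ i ∈ Finset.range r, (σ ^ i) c • (semiVec σ g)^[i] v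
  have hfix : ∀ c v, semiVec σ g (avg c v) = avg c v := by
    intro c v
    show T (avg c v) = _
    rw [map_sum]
    have h1 : ∀ i, T ((σ ^ i) c • (semiVec σ g)^[i] v) = (σ ^ (i + 1)) c • (semiVec σ g)^[i + 1] v := fun i => by
      show semiVec σ g _ = _
      rw [semiVec_smul, Function.iterate_succ_apply', pow_succ']
      rfl
    rw [Finset.sum_congr rfl fun i _ => h1 i]
    have h2 := Finset.sum_range_succ' (fun i => (σ ^ i) c • (semiVec σ g)^[i] v) r
    have h3 := Finset.sum_range_succ (fun i => (σ ^ i) c • (semiVec σ g)^[i] v) r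
    have h4 : (σ ^ r) c • (semiVec σ g)^[r] v = (σ ^ 0) c • (semiVec σ g)^[0] v := by
      rw [semiVec_iterate, semiVec_iterate, hg, hσr, pow_zero, twistProd_zero]
    rw [h4] at h3
    exact add_right_cancel (h2.symm.trans h3)
  let S : Set (Fin n → F) := {v | semiVec σ g v = v}
  have hspan : Submodule.span F S = ⊤ := by
    by_contra hne
    obtain ⟨φ, hφ, hle⟩ := Submodule.exists_le_ker_of_lt_top _ (lt_top_iff_ne_top.mpr hne)
    apply hφ
    refine LinearMap.ext fun v => ?_
    have hz : ∀ c : F, ∑ i : Fin r, φ ((semiVec σ g)^[(i : ℕ)] v) * (σ ^ (i : ℕ)) c = 0 := by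
      intro c
      have := hle (Submodule.subset_span (hfix c v))
      rw [LinearMap.mem_ker, map_sum] at this
      rw [← this, Fin.sum_univ_eq_sum_range (fun i => φ ((semiVec σ g)^[i] v) * (σ ^ i) c)]
      exact Finset.sum_congr rfl fun i _ => by rw [map_smul, smul_eq_mul, mul_comm]
    let χ : Fin r → (F →* F) := fun i => ((σ ^ (i : ℕ) : RingAut F) : F →* F)
    have hχ : Function.Injective χ := fun i j hij =>
      hinj (RingEquiv.ext fun x => DFunLike.congr_fun hij x)
    have hli := (linearIndependent_monoidHom F F).comp χ hχ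
    have := Fintype.linearIndependent_iff.mp hli (fun i => φ ((semiVec σ g)^[(i : ℕ)] v))
      (funext fun c => by simpa [χ] using hz c) ⟨0, hr⟩
    simpa using this
  obtain ⟨b, hbS, hbspan, hbli⟩ := exists_linearIndependent F S
  let B : Module.Basis b F (Fin n → F) := Module.Basis.mk hbli (by rw [Subtype.range_coe, hbspan, hspan])
  have : Fintype b := FiniteDimensional.fintypeBasisIndex B
  have hcard : Fintype.card b = n := by rw [← Module.finrank_eq_card_basis B, Module.finrank_fin_fun]
  let e : Fin n ≃ b := (Fintype.equivFinOfCardEq hcard).symm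
  let B' : Module.Basis (Fin n) F (Fin n → F) := B.reindex e.symm
  have hB' : ∀ i, semiVec σ g (B' i) = B' i := fun i => by
    have : B' i = (e i : Fin n → F) := by simp [B', B]
    rw [this]
    exact hbS (e i).2
  let M : Matrix (Fin n) (Fin n) F := (Pi.basisFun F (Fin n)).toMatrix B'
  have hM : M.det ≠ 0 := by
    have := (Pi.basisFun F (Fin n)).invertibleToMatrix B'
    exact (Matrix.isUnit_det_of_invertible M).ne_zero
  refine ⟨Matrix.GeneralLinearGroup.mkOfDetNeZero M hM, Units.ext ?_⟩
  rw [Units.val_mul, coe_glMap]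
  show (g : Matrix (Fin n) (Fin n) F) * M.map σ = M
  ext a i
  have := congrFun (hB' i) a
  simpa [semiVec, M, Matrix.mul_apply, Matrix.mulVec, dotProduct, Module.Basis.toMatrix_apply] using this

theorem autNorm_one_arg (σ : RingAut F) (u : Fˣ) : autNorm σ 1 u = u := by
  show u * Units.map (σ : F →* F) 1 = u
  rw [map_one, mul_one]

theorem twistProd_scalar (σ : RingAut F) (u : Fˣ) (k : ℕ) :
    twistProd σ (Matrix.GeneralLinearGroup.scalar (Fin n) u) k =
      Matrix.GeneralLinearGroup.scalar (Fin n) (autNorm σ k u) := by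
  have h := twistProd_scalar_mul σ u (1 : GL (Fin n) F) k
  have h1 : twistProd σ (1 : GL (Fin n) F) k = 1 := by
    induction k with
    | zero => rfl
    | succ k ih => rw [twistProd_succ, ih (twistProd_scalar_mul σ u (1 : GL (Fin n) F) k), map_one, mul_one]
  rwa [mul_one, h1, mul_one] at h

/-- Hilbert 90 for units. -/
theorem exists_div_eq_of_autNorm (σ : RingAut F) {r : ℕ} (hσr : σ ^ r = 1)
    (hinj : Function.Injective fun i : Fin r => σ ^ (i : ℕ)) (hr : 0 < r) (u : Fˣ) (hu : autNorm σ r u = 1) :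
    ∃ w : Fˣ, u * Units.map (σ : F →* F) w = w := by
  obtain ⟨h, hh⟩ := exists_glMap_eq σ hσr hinj (Matrix.GeneralLinearGroup.scalar (Fin 1) u)
    (by rw [twistProd_scalar, hu, map_one]) hr
  refine ⟨Matrix.GeneralLinearGroup.det h, ?_⟩
  have := congrArg Matrix.GeneralLinearGroup.det hh
  rw [map_mul] at this
  have e1 : Matrix.GeneralLinearGroup.det (Matrix.GeneralLinearGroup.scalar (Fin 1) u) = u := Units.ext (by simp)
  have e2 : Matrix.GeneralLinearGroup.det (glMap σ h) = Units.map (σ : F →* F) (Matrix.GeneralLinearGroup.det h) :=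
    Units.ext (det_map_ringEquiv σ _)
  rwa [e1, e2] at this

theorem map_autNorm_mul (σ : RingAut F) (k : ℕ) (u : Fˣ) :
    Units.map (σ : F →* F) (autNorm σ k u) * u = autNorm σ k u * Units.map ((σ ^ k : RingAut F) : F →* F) u := by
  induction k with
  | zero =>
    show Units.map (σ : F →* F) 1 * u = 1 * Units.map ((σ ^ 0 : RingAut F) : F →* F) u
    rw [map_one, one_mul, one_mul]
    exact Units.ext rfl
  | succ k ih =>
    have hs : autNorm σ (k + 1) u = u * Units.map (σ : F →* F) (autNorm σ k u) := rfl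
    have hp : Units.map ((σ ^ (k + 1) : RingAut F) : F →* F) u =
        Units.map (σ : F →* F) (Units.map ((σ ^ k : RingAut F) : F →* F) u) := by
      rw [pow_succ']; exact Units.ext rfl
    rw [hs, hp, mul_assoc, ← map_mul, ← ih, mul_comm]
    congr 1
    rw [mul_comm]

/-- The norm onto the fixed field of a finite field is surjective. -/
theorem exists_autNorm_eq [Finite F] (σ : RingAut F) {r : ℕ} (hσr : σ ^ r = 1)
    (hinj : Function.Injective fun i : Fin r => σ ^ (i : ℕ)) (hr : 0 < r) (c : Fˣ)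
    (hc : Units.map (σ : F →* F) c = c) : ∃ u : Fˣ, autNorm σ r u = c := by
  let D : Fˣ →* Fˣ := MonoidHom.id Fˣ * (Units.map (σ : F →* F))⁻¹
  have hD : ∀ w, D w = w * (Units.map (σ : F →* F) w)⁻¹ := fun w => rfl
  have hker : (autNorm σ r).ker ≤ D.range := by
    intro u hu
    obtain ⟨w, hw⟩ := exists_div_eq_of_autNorm σ hσr hinj hr u hu
    exact ⟨w, by rw [hD, mul_inv_eq_iff_eq_mul, hw]⟩
  have hrange : (autNorm σ r).range ≤ D.ker := by
    rintro _ ⟨u, rfl⟩
    have := map_autNorm_mul σ r u
    rw [hσr] at this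
    have h1 : Units.map ((1 : RingAut F) : F →* F) u = u := Units.ext rfl
    rw [h1] at this
    rw [MonoidHom.mem_ker, hD, mul_right_cancel this, mul_inv_cancel]
  have e1 : ∀ f : Fˣ →* Fˣ, Nat.card f.ker * Nat.card f.range = Nat.card Fˣ := fun f => by
    rw [← Subgroup.index_ker, Subgroup.card_mul_index]
  have heq : (autNorm σ r).range = D.ker := by
    refine Subgroup.eq_of_le_of_card_ge hrange
      (Nat.le_of_mul_le_mul_left ?_ (Nat.card_pos : 0 < Nat.card (autNorm σ r).ker))
    rw [e1, ← e1 D, mul_comm _ (Nat.card D.ker)]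
    exact Nat.mul_le_mul_left _ (Subgroup.card_le_of_le hker)
  have : c ∈ (autNorm σ r).range := by
    rw [heq, MonoidHom.mem_ker, hD, hc, mul_inv_cancel]
  exact this

end CfsgLib.AutPSL
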