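import Cfsg.Agent.AutPSL.Out
import Cfsg.Agent.AutPSL.Descent

/-!
Classes of field and graph-field automorphisms of `PSL_n`: generic facts and normal forms.
-/

set_option autoImplicit false

open Matrix

namespace CfsgLib.AutPSL

/-! ### Generic facts on conjugacy -/

section Generic

variable {X : Type*} [Group X]

/-- The number of `K`-classes in an `H`-class, for `K` normal in `X`. -/
theorem splitClassCount_eq (H K : Subgroup X) [K.Normal] (hKH : K ≤ H) (x : X) :
    Cfsg.splitClassCount H K x = (K ⊔ H ⊓ Subgroup.centralizer {x}).relIndex H := by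
  set C : Subgroup X := H ⊓ Subgroup.centralizer {x}
  have hbij : Function.Bijective (fun q : H ⧸ (K ⊔ C).subgroupOf H =>
      Quotient.liftOn' q (fun h => Quot.mk (fun y z : {y : X // Cfsg.IsConjUnder H x y} => Cfsg.IsConjUnder K y.1 z.1)
          ⟨(h : X) * x * (h : X)⁻¹, h, h.2, rfl⟩)
        (fun a b hab => by
          rw [QuotientGroup.leftRel_apply] at hab
          have hab' : (a : X)⁻¹ * b ∈ K ⊔ C := hab
          obtain ⟨k, hk, c, hc, hkc⟩ := Subgroup.mem_sup_of_normal_left.mp hab'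
          refine Quot.sound ⟨(a : X) * k * (a : X)⁻¹, Subgroup.Normal.conj_mem ‹_› k hk _, ?_⟩
          have hcx : c * x = x * c := (Subgroup.mem_centralizer_singleton_iff.mp hc.2)
          have hb : (b : X) = a * k * c := by rw [mul_assoc, hkc, mul_inv_cancel_left]
          show (b : X) * x * (b : X)⁻¹ = _
          rw [hb]
          calc (a : X) * k * c * x * ((a : X) * k * c)⁻¹ = (a : X) * k * (c * x * c⁻¹) * k⁻¹ * (a : X)⁻¹ := by group
            _ = _ := by rw [hcx, mul_inv_cancel_right]; group)) := by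
    constructor
    · intro p q
      induction p using QuotientGroup.induction_on with
      | H a =>
      induction q using QuotientGroup.induction_on with
      | H b =>
      intro h
      have hequiv : Equivalence (fun y z : {y : X // Cfsg.IsConjUnder H x y} => Cfsg.IsConjUnder K y.1 z.1) := by
        refine ⟨fun y => ⟨1, one_mem K, by simp⟩, ?_, ?_⟩
        · rintro y z ⟨k, hk, e⟩
          exact ⟨k⁻¹, inv_mem hk, by rw [e]; group⟩
        · rintro y z w ⟨k, hk, e⟩ ⟨l, hl, e'⟩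
          exact ⟨l * k, mul_mem hl hk, by rw [e', e]; group⟩
      obtain ⟨k, hk, e⟩ := hequiv.eqvGen_iff.mp (Quot.eqvGen_exact h)
      have e' : (b : X) * x * (b : X)⁻¹ = k * ((a : X) * x * (a : X)⁻¹) * k⁻¹ := e
      rw [QuotientGroup.eq]
      show (a : X)⁻¹ * b ∈ K ⊔ C
      have hc : (b : X)⁻¹ * k * a ∈ C := by
        refine Subgroup.mem_inf.mpr ⟨mul_mem (mul_mem (inv_mem b.2) (hKH hk)) a.2, Subgroup.mem_centralizer_singleton_iff.mpr ?_⟩
        calc (b : X)⁻¹ * k * a * x = (b : X)⁻¹ * (k * ((a : X) * x * (a : X)⁻¹) * k⁻¹) * (k * a) := by group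
          _ = x * ((b : X)⁻¹ * k * a) := by rw [← e']; group
      have : (a : X)⁻¹ * b = (a : X)⁻¹ * k * a * ((b : X)⁻¹ * k * a)⁻¹ := by group
      rw [this]
      refine mul_mem (Subgroup.mem_sup_left ?_) (Subgroup.mem_sup_right (inv_mem hc))
      simpa using Subgroup.Normal.conj_mem ‹_› k hk (a : X)⁻¹
    · intro q
      obtain ⟨⟨y, h, hh, rfl⟩, rfl⟩ := Quot.exists_rep q
      exact ⟨QuotientGroup.mk ⟨h, hh⟩, rfl⟩
  exact (Nat.card_congr (Equiv.ofBijective _ hbij)).symm

theorem splitClassCount_conj {H K : Subgroup X} {x h : X} (hh : h ∈ H) :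
    Cfsg.splitClassCount H K (h * x * h⁻¹) = Cfsg.splitClassCount H K x := by
  have hiff : ∀ y, Cfsg.IsConjUnder H (h * x * h⁻¹) y ↔ Cfsg.IsConjUnder H x y := by
    refine fun y => ⟨?_, ?_⟩
    · rintro ⟨a, ha, rfl⟩; exact ⟨a * h, mul_mem ha hh, by group⟩
    · rintro ⟨a, ha, rfl⟩; exact ⟨a * h⁻¹, mul_mem ha (inv_mem hh), by group⟩
  exact Nat.card_congr (Quot.congr (Equiv.subtypeEquivRight hiff) fun a b => Iff.rfl)

theorem centralizer_conj_equiv {H : Subgroup X} {x h : X} (hh : h ∈ H) :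
    Nonempty (↥(H ⊓ Subgroup.centralizer {h * x * h⁻¹}) ≃* ↥(H ⊓ Subgroup.centralizer {x})) := by
  have : H ⊓ Subgroup.centralizer {h * x * h⁻¹} = (H ⊓ Subgroup.centralizer {x}).map (MulAut.conj h).toMonoidHom := by
    ext y
    constructor
    · rintro ⟨hy, hc⟩
      refine ⟨h⁻¹ * y * h, Subgroup.mem_inf.mpr ⟨mul_mem (mul_mem (inv_mem hh) hy) hh, Subgroup.mem_centralizer_singleton_iff.mpr ?_⟩, by
        simp [MulAut.conj_apply, mul_assoc]⟩
      have := Subgroup.mem_centralizer_singleton_iff.mp hc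
      calc h⁻¹ * y * h * x = h⁻¹ * (y * (h * x * h⁻¹)) * h := by group
        _ = x * (h⁻¹ * y * h) := by rw [this]; group
    · rintro ⟨z, ⟨hz, hc⟩, rfl⟩
      refine Subgroup.mem_inf.mpr ⟨?_, Subgroup.mem_centralizer_singleton_iff.mpr ?_⟩
      · simpa [MulAut.conj_apply] using mul_mem (mul_mem hh hz) (inv_mem hh)
      · have := Subgroup.mem_centralizer_singleton_iff.mp hc
        show h * z * h⁻¹ * (h * x * h⁻¹) = _
        calc h * z * h⁻¹ * (h * x * h⁻¹) = h * (z * x) * h⁻¹ := by group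
          _ = h * x * h⁻¹ * (h * z * h⁻¹) := by rw [this]; group
  exact ⟨(MulEquiv.subgroupCongr this).trans ((H ⊓ Subgroup.centralizer {x}).equivMapOfInjective
    (MulAut.conj h).toMonoidHom (MulAut.conj h).injective).symm⟩

theorem orderOf_conj' (h x : X) : orderOf (h * x * h⁻¹) = orderOf x :=
  (MulAut.conj h).orderOf_eq x

theorem isConjUnder_iff_conj {H : Subgroup X} {x y h : X} (hh : h ∈ H) :
    Cfsg.IsConjUnder H (h * x * h⁻¹) y ↔ Cfsg.IsConjUnder H x (h⁻¹ * y * h) := by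
  refine ⟨?_, ?_⟩
  · rintro ⟨a, ha, rfl⟩; exact ⟨h⁻¹ * a * h, mul_mem (mul_mem (inv_mem hh) ha) hh, by group⟩
  · rintro ⟨a, ha, e⟩
    refine ⟨h * a * h⁻¹, mul_mem (mul_mem hh ha) (inv_mem hh), ?_⟩
    calc y = h * (h⁻¹ * y * h) * h⁻¹ := by group
      _ = _ := by rw [e]; group

end Generic

/-! ### Normal forms -/

variable {F : Type*} [Field F] {n : ℕ}

theorem ringAut_comm [Finite F] (σ τ : RingAut F) : σ * τ = τ * σ := by
  letI := Fintype.ofFinite F
  obtain ⟨p, hp⟩ := CharP.exists F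
  obtain ⟨k, hpp, hk⟩ := FiniteField.card F p
  haveI := Fact.mk hpp
  obtain ⟨e⟩ := nonempty_ringAut_equiv (p := p) k.2 hk
  exact e.injective (by rw [map_mul, map_mul, mul_comm])

theorem dualGL_one : dualGL (1 : GL (Fin n) F) = 1 :=
  Units.ext (by show ((1⁻¹ : GL (Fin n) F) : Matrix (Fin n) (Fin n) F).transpose = 1; simp)

theorem semiAut_mul' (g h : GL (Fin n) F) (σ τ : RingAut F) :
    semiAut g σ * semiAut h τ = semiAut (g * glMap σ h) (σ * τ) := semiAut_mul g h σ τ

theorem semiAut_pow (g : GL (Fin n) F) (σ : RingAut F) (k : ℕ) :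
    semiAut g σ ^ k = semiAut (twistProd σ g k) (σ ^ k) := by
  induction k with
  | zero => rw [pow_zero, pow_zero, twistProd_zero]; exact semiAut_one.symm
  | succ k ih => rw [pow_succ', ih, semiAut_mul', twistProd_succ, pow_succ']

theorem invTrans_comm_std (σ : F ≃+* F) :
    invTrans * semiAut (1 : GL (Fin n) F) σ = semiAut (1 : GL (Fin n) F) σ * invTrans := by
  rw [invTrans_mul_semiAut, dualGL_one]

theorem twist_comm_std (e : Multiplicative (ZMod 2)) (σ : F ≃+* F) :
    twist e * semiAut (1 : GL (Fin n) F) σ = semiAut (1 : GL (Fin n) F) σ * twist e := by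
  rcases multZMod_two e with rfl | rfl
  · rw [twist_one, one_mul, mul_one]
  · rw [twist_ofAdd_one, invTrans_comm_std]

variable [Finite F]

theorem twist_comm_invTrans (e : Multiplicative (ZMod 2)) :
    (twist e : MulAut (Matrix.ProjectiveSpecialLinearGroup (Fin n) F)) * invTrans = invTrans * twist e := by
  rcases multZMod_two e with rfl | rfl
  · rw [twist_one, one_mul, mul_one]
  · rw [twist_ofAdd_one]

/-- A conjugate of a standard element by any automorphism is a conjugate by an inner-diagonal one. -/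
theorem exists_inndiag_conj (hn : 2 ≤ n) {x x₀ α : MulAut (Matrix.ProjectiveSpecialLinearGroup (Fin n) F)}
    (hσ : ∀ τ : F ≃+* F, semiAut (1 : GL (Fin n) F) τ * x₀ = x₀ * semiAut (1 : GL (Fin n) F) τ)
    (ht : ∀ e, twist e * x₀ = x₀ * twist e) (hx : α * x * α⁻¹ = x₀) :
    ∃ h ∈ Cfsg.inndiagPSL n F, x = h * x₀ * h⁻¹ := by
  obtain ⟨⟨τ, e⟩, g, rfl⟩ := exists_twist hn α
  set w := semiAut (1 : GL (Fin n) F) τ * twist e with hw
  have hwc : w * x₀ = x₀ * w := by
    rw [hw, mul_assoc, ht, ← mul_assoc, hσ, mul_assoc]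
  have hα : semiAut g τ * twist e = semiAut g (RingEquiv.refl F) * w := by
    rw [hw, ← mul_assoc, ← semiAut_eq_inndiag_mul]
  have hmem : semiAut g (RingEquiv.refl F) ∈ Cfsg.inndiagPSL n F := by
    rw [inndiag_eq_range]; exact ⟨g, rfl⟩
  refine ⟨w⁻¹ * (semiAut g (RingEquiv.refl F))⁻¹ * w, ?_, ?_⟩
  · simpa using (inndiag_normal hn).conj_mem _ (inv_mem hmem) w⁻¹
  · have h1 : w * x₀ * w⁻¹ = x₀ := by rw [hwc, mul_inv_cancel_right]
    rw [hα] at hx
    set a := semiAut g (RingEquiv.refl F)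
    calc x = w⁻¹ * a⁻¹ * (a * w * x * (a * w)⁻¹) * a * w := by group
      _ = w⁻¹ * a⁻¹ * (w * x₀ * w⁻¹) * a * w := by rw [h1, hx]
      _ = _ := by group

theorem fieldClass_normalForm (hn : 2 ≤ n) {x : MulAut (Matrix.ProjectiveSpecialLinearGroup (Fin n) F)}
    (hx : Cfsg.IsFieldAutClassPSL x) :
    ∃ σ : RingAut F, σ ≠ 1 ∧ ∃ h ∈ Cfsg.inndiagPSL n F, x = h * semiAut (1 : GL (Fin n) F) σ * h⁻¹ := by
  obtain ⟨α, σ, hσ, hx⟩ := hx
  refine ⟨σ, hσ, exists_inndiag_conj hn (fun τ => ?_) (fun e => twist_comm_std e σ) (isStdField_iff.mp hx)⟩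
  rw [semiAut_mul', semiAut_mul', map_one, map_one, ringAut_comm]

theorem graphFieldClass_normalForm {x : MulAut (Matrix.ProjectiveSpecialLinearGroup (Fin n) F)}
    (hx : Cfsg.IsGraphFieldAutClassPSL x) :
    ∃ σ : RingAut F, σ ≠ 1 ∧ ∃ h ∈ Cfsg.inndiagPSL n F,
      x = h * (semiAut (1 : GL (Fin n) F) σ * invTrans) * h⁻¹ := by
  obtain ⟨hn, α, φ, γ, σ, hσ, hφ, hγ, hx⟩ := hx
  obtain rfl := isStdField_iff.mp hφ
  obtain rfl := isInvTranspose_iff.mp hγ
  refine ⟨σ, hσ, exists_inndiag_conj (by omega) (fun τ => ?_) (fun e => ?_) hx⟩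
  · rw [← mul_assoc, semiAut_mul', mul_assoc, invTrans_comm_std, ← mul_assoc, semiAut_mul', map_one, map_one,
      ringAut_comm]
  · rw [← mul_assoc, twist_comm_std, mul_assoc, twist_comm_invTrans, ← mul_assoc]

/-- The standard field automorphisms as a homomorphism. -/
def stdHom (n : ℕ) (F : Type*) [Field F] : RingAut F →* MulAut (Matrix.ProjectiveSpecialLinearGroup (Fin n) F) where
  toFun σ := semiAut (1 : GL (Fin n) F) σ
  map_one' := semiAut_one
  map_mul' σ τ := by rw [semiAut_mul', map_one, one_mul]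

theorem stdHom_injective (hn : 2 ≤ n) : Function.Injective (stdHom n F) :=
  fun _ _ e => (semiAut_eq_semiAut hn e).1

theorem orderOf_semiAut_one (hn : 2 ≤ n) (σ : RingAut F) : orderOf (semiAut (1 : GL (Fin n) F) σ) = orderOf σ :=
  orderOf_injective (stdHom n F) (stdHom_injective hn) σ

omit [Finite F] in
theorem injective_pow_of_orderOf {σ : RingAut F} {r : ℕ} (h : orderOf σ = r) :
    Function.Injective fun i : Fin r => σ ^ (i : ℕ) := by
  intro i j e
  apply Fin.ext
  have hi : (i : ℕ) < orderOf σ := h ▸ i.2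
  have hj : (j : ℕ) < orderOf σ := h ▸ j.2
  exact pow_injOn_Iio_orderOf (by simpa using hi) (by simpa using hj) e

/-! ### The index computation -/

theorem index_sup_pow {A : Type*} [CommGroup A] [IsCyclic A] [Finite A] (U : Subgroup A) (n : ℕ) :
    (U ⊔ (powMonoidHom n : A →* A).range).index = Nat.gcd n U.index := by
  have : IsCyclic (A ⧸ U) := isCyclic_of_surjective _ (QuotientGroup.mk'_surjective U)
  have hmap : (powMonoidHom n : A →* A).range.map (QuotientGroup.mk' U) = (powMonoidHom n : A ⧸ U →* A ⧸ U).range := by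
    ext y
    constructor
    · rintro ⟨_, ⟨a, rfl⟩, rfl⟩; exact ⟨QuotientGroup.mk a, rfl⟩
    · rintro ⟨b, rfl⟩
      obtain ⟨a, rfl⟩ := QuotientGroup.mk_surjective b
      exact ⟨a ^ n, ⟨a, rfl⟩, rfl⟩
  have h := Subgroup.index_map (powMonoidHom n : A →* A).range (QuotientGroup.mk' U)
  rw [hmap, IsCyclic.index_powMonoidHom_range, QuotientGroup.ker_mk',
    MonoidHom.range_eq_top.mpr (QuotientGroup.mk'_surjective U), Subgroup.index_top, mul_one] at h
  rw [sup_comm, ← h, ← Subgroup.index_eq_card, Nat.gcd_comm]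

theorem relIndex_inn_sup (hn : 2 ≤ n) (L : Subgroup (GL (Fin n) F)) (U : Subgroup Fˣ)
    (hU : L.map Matrix.GeneralLinearGroup.det = U) :
    (Cfsg.Inn (Matrix.ProjectiveSpecialLinearGroup (Fin n) F) ⊔ L.map (innDiagHom n F)).relIndex
        (Cfsg.inndiagPSL n F) = Nat.gcd n U.index := by
  have : NeZero n := ⟨by omega⟩
  subst hU
  have hcomap : (Cfsg.Inn (Matrix.ProjectiveSpecialLinearGroup (Fin n) F) ⊔ L.map (innDiagHom n F)).comap (innDiagHom n F) =
      (L.map Matrix.GeneralLinearGroup.det ⊔ (powMonoidHom n : Fˣ →* Fˣ).range).comap Matrix.GeneralLinearGroup.det := by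
    ext g
    constructor
    · intro hg
      obtain ⟨a, ⟨x, rfl⟩, b, ⟨l, hl, rfl⟩, e⟩ := Subgroup.mem_sup_of_normal_left.mp (Subgroup.mem_comap.mp hg)
      obtain ⟨k, rfl⟩ := QuotientGroup.mk_surjective x
      rw [← semiAut_toGL, ← innDiagHom_apply, ← map_mul] at e
      have h1 : (Matrix.SpecialLinearGroup.toGL k * l)⁻¹ * g ∈ (innDiagHom n F).ker := by
        rw [MonoidHom.mem_ker, map_mul, map_inv, e, inv_mul_cancel]
      rw [ker_innDiagHom hn, Matrix.GeneralLinearGroup.center_eq_range_scalar] at h1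
      obtain ⟨u, hu⟩ := h1
      rw [Subgroup.mem_comap, ← mul_inv_cancel_left (Matrix.SpecialLinearGroup.toGL k * l) g, ← hu, map_mul, map_mul,
        det_toGL, one_mul, det_scalar_pow]
      exact mul_mem (Subgroup.mem_sup_left ⟨l, hl, rfl⟩) (Subgroup.mem_sup_right ⟨u, rfl⟩)
    · intro hg
      obtain ⟨_, ⟨l, hl, rfl⟩, _, ⟨u, rfl⟩, e⟩ := Subgroup.mem_sup.mp (Subgroup.mem_comap.mp hg)
      obtain ⟨k, hk⟩ := exists_eq_toGL (g := g * (l * Matrix.GeneralLinearGroup.scalar (Fin n) u)⁻¹)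
        (by rw [map_mul, map_inv, map_mul, det_scalar_pow, ← e]; exact mul_inv_cancel _)
      have hg' : g = Matrix.SpecialLinearGroup.toGL k * l * Matrix.GeneralLinearGroup.scalar (Fin n) u := by
        rw [← hk, mul_assoc, inv_mul_cancel_right]
      rw [Subgroup.mem_comap, hg', innDiagHom_apply, semiAut_mul_scalar, ← innDiagHom_apply, map_mul, innDiagHom_apply,
        semiAut_toGL]
      exact mul_mem (Subgroup.mem_sup_left ⟨_, rfl⟩) (Subgroup.mem_sup_right ⟨l, hl, rfl⟩)
  have hdet : Function.Surjective (Matrix.GeneralLinearGroup.det : GL (Fin n) F →* Fˣ) :=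
    fun a => ⟨diagOne a, det_diagOne a⟩
  rw [inndiag_eq_range, ← Subgroup.index_comap, hcomap, Subgroup.index_comap_of_surjective _ hdet, index_sup_pow]

end CfsgLib.AutPSL
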