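import Cfsg.Agent.AutPSL.Main
import Cfsg.Prelude.Def_LieTypeDatum

/-!
The named classes of automorphisms of `PSL_n` in terms of `semiAut` and `invTrans`,
uniqueness of the data, and the inner-diagonal subgroup.
-/

set_option autoImplicit false

open Matrix

namespace CfsgLib.AutPSL

variable {F : Type*} [Field F] {n : ℕ}

theorem map_refl_ringEquiv (M : Matrix (Fin n) (Fin n) F) : M.map (RingEquiv.refl F) = M := by
  ext a b; rfl

theorem glMap_refl (g : GL (Fin n) F) : glMap (RingEquiv.refl F) g = g :=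
  Units.ext (by ext a b; rfl)

theorem isInducedBySemilinear_iff {g : GL (Fin n) F} {σ : F ≃+* F}
    {β : MulAut (Matrix.ProjectiveSpecialLinearGroup (Fin n) F)} :
    Cfsg.IsInducedBySemilinearPSL g σ β ↔ β = semiAut g σ := by
  refine ⟨fun h => aut_ext fun s => h s (semiFun g σ s) rfl, ?_⟩
  rintro rfl s s' hs'
  rw [semiAut_mk, show semiFun g σ s = s' from Subtype.ext hs'.symm]

theorem isInnerDiagonal_iff {β : MulAut (Matrix.ProjectiveSpecialLinearGroup (Fin n) F)} :
    Cfsg.IsInnerDiagonalAutPSL β ↔ ∃ g : GL (Fin n) F, β = semiAut g (RingEquiv.refl F) := by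
  constructor
  · rintro ⟨g, hg⟩
    refine ⟨g, aut_ext fun s => hg s (semiFun g (RingEquiv.refl F) s) ?_⟩
    rw [coe_semiFun, map_refl_ringEquiv]
  · rintro ⟨g, rfl⟩
    refine ⟨g, fun s s' hs' => ?_⟩
    rw [semiAut_mk, show semiFun g (RingEquiv.refl F) s = s' from Subtype.ext (by rw [coe_semiFun, map_refl_ringEquiv]; exact hs'.symm)]

theorem isStdField_iff {σ : F ≃+* F} {β : MulAut (Matrix.ProjectiveSpecialLinearGroup (Fin n) F)} :
    Cfsg.IsStdFieldAutPSL σ β ↔ β = semiAut (1 : GL (Fin n) F) σ := by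
  have hco : ∀ s : Matrix.SpecialLinearGroup (Fin n) F,
      (semiFun (1 : GL (Fin n) F) σ s : Matrix (Fin n) (Fin n) F) =
        (s : Matrix (Fin n) (Fin n) F).map σ := fun s => by simp [coe_semiFun]
  refine ⟨fun h => aut_ext fun s => h s (semiFun 1 σ s) (hco s), ?_⟩
  rintro rfl s s' hs'
  rw [semiAut_mk, show semiFun 1 σ s = s' from Subtype.ext ((hco s).trans hs'.symm)]

theorem isFieldAutPSL_iff {β : MulAut (Matrix.ProjectiveSpecialLinearGroup (Fin n) F)} :
    Cfsg.IsFieldAutPSL β ↔ ∃ σ : F ≃+* F, β = semiAut (1 : GL (Fin n) F) σ :=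
  exists_congr fun σ => isStdField_iff

theorem isInvTranspose_iff {β : MulAut (Matrix.ProjectiveSpecialLinearGroup (Fin n) F)} :
    Cfsg.IsInverseTransposeAutPSL β ↔ β = invTrans := by
  refine ⟨fun h => aut_ext fun s => h s (invTransSL s) rfl, ?_⟩
  rintro rfl s s' hs'
  exact congrArg _ (Subtype.ext hs'.symm)

/-- Conjugation by an invertible matrix, as an automorphism of `PSL`. -/
def innDiagHom (n : ℕ) (F : Type*) [Field F] :
    GL (Fin n) F →* MulAut (Matrix.ProjectiveSpecialLinearGroup (Fin n) F) where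
  toFun g := semiAut g (RingEquiv.refl F)
  map_one' := semiAut_one
  map_mul' g h := by rw [semiAut_mul, glMap_refl]; rfl

theorem innDiagHom_apply (g : GL (Fin n) F) : innDiagHom n F g = semiAut g (RingEquiv.refl F) := rfl

theorem inndiag_eq_range : Cfsg.inndiagPSL n F = (innDiagHom n F).range := by
  refine le_antisymm (Subgroup.closure_le _ |>.mpr ?_) ?_
  · intro β hβ
    obtain ⟨g, hg⟩ := isInnerDiagonal_iff.mp hβ
    exact ⟨g, hg.symm⟩
  · rintro _ ⟨g, rfl⟩
    exact Subgroup.subset_closure (isInnerDiagonal_iff.mpr ⟨g, rfl⟩)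

theorem semiAut_eq_inndiag_mul (g : GL (Fin n) F) (σ : F ≃+* F) :
    semiAut g σ = semiAut g (RingEquiv.refl F) * semiAut (1 : GL (Fin n) F) σ := by
  rw [semiAut_mul, map_one, mul_one]; rfl

theorem toGL_semiFun_eq_conj (k s : Matrix.SpecialLinearGroup (Fin n) F) :
    semiFun (Matrix.SpecialLinearGroup.toGL k) (RingEquiv.refl F) s = k * s * k⁻¹ := by
  apply Subtype.ext
  rw [coe_semiFun, ← map_inv]
  simp only [Matrix.SpecialLinearGroup.coe_mul]
  rfl

theorem semiAut_toGL (k : Matrix.SpecialLinearGroup (Fin n) F) :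
    semiAut (Matrix.SpecialLinearGroup.toGL k) (RingEquiv.refl F) =
      MulAut.conj (QuotientGroup.mk k : Matrix.ProjectiveSpecialLinearGroup (Fin n) F) :=
  aut_ext fun s => by
    rw [semiAut_mk, toGL_semiFun_eq_conj, MulAut.conj_apply, QuotientGroup.mk_mul, QuotientGroup.mk_mul,
      QuotientGroup.mk_inv]

theorem inn_le_inndiag : Cfsg.Inn (Matrix.ProjectiveSpecialLinearGroup (Fin n) F) ≤ Cfsg.inndiagPSL n F := by
  rintro _ ⟨x, rfl⟩
  obtain ⟨k, rfl⟩ := QuotientGroup.mk_surjective x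
  rw [inndiag_eq_range]
  exact ⟨Matrix.SpecialLinearGroup.toGL k, semiAut_toGL k⟩

/-! ### Uniqueness of the data -/

section Uniqueness

variable [Finite F]

/-- A semilinear map acting trivially on `PSL` is a scalar with trivial field automorphism. -/
theorem semiAut_eq_one (hn : 2 ≤ n) {g : GL (Fin n) F} {σ : F ≃+* F} (h : semiAut g σ = 1) :
    σ = RingEquiv.refl F ∧ ∃ c : F, (g : Matrix (Fin n) (Fin n) F) = c • 1 := by
  classical
  have : Nontrivial (Fin n) := Fin.nontrivial_iff_two_le.mpr hn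
  have hflag : ∀ i j (hij : i ≠ j), SamePt (cFlag i j hij) ((cFlag i j hij).semi g σ) ∧
      SameHyp (cFlag i j hij) ((cFlag i j hij).semi g σ) := by
    intro i j hij
    refine rootGroup_eq_iff.mp ?_
    rw [← map_semiAut_rootGroup, h]
    exact (Subgroup.map_id _).symm
  have hsingle : ∀ i : Fin n, (σ ∘ (Pi.single i 1 : Fin n → F)) = Pi.single i 1 := fun i => by
    ext k; rcases eq_or_ne k i with rfl | hk <;> simp [*]
  -- `g` is diagonal
  have hdiag : ∀ a i, a ≠ i → (g : Matrix (Fin n) (Fin n) F) a i = 0 := by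
    intro a i hai
    obtain ⟨j, hj⟩ := exists_ne i
    obtain ⟨c, hc⟩ := (hflag i j hj.symm).1
    have hc' : (g : Matrix (Fin n) (Fin n) F) *ᵥ (σ ∘ Pi.single i 1) = c • Pi.single i 1 := hc
    rw [hsingle, Matrix.mulVec_single_one] at hc'
    have := congrFun hc' a
    simpa [hai] using this
  obtain ⟨d, hd⟩ : ∃ d : Fin n → F, (g : Matrix (Fin n) (Fin n) F) = Matrix.diagonal d :=
    ⟨fun i => (g : Matrix (Fin n) (Fin n) F) i i, by
      ext a b; rcases eq_or_ne a b with rfl | hab <;> simp [*]⟩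
  have hrel : ∀ i j (hij : i ≠ j) c, d i * σ c = c * d j := by
    intro i j hij c
    obtain ⟨p, hp⟩ := CharP.exists F
    have := Fact.mk (CharP.char_is_prime F p)
    have h2 : semiAut g σ (QuotientGroup.mk (tv (cFlag i j hij) c)) = QuotientGroup.mk (tv (cFlag i j hij) c) := by
      rw [h]; rfl
    rw [semiAut_mk] at h2
    have h3 : semiFun g σ (tv (cFlag i j hij) c) = tv (cFlag i j hij) c :=
      eq_of_mk_eq p (by rw [semiFun_tv]; exact tv_pow_prime p _ _) (tv_pow_prime p _ _) h2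
    have h4 := congrArg (fun s : Matrix.SpecialLinearGroup (Fin n) F =>
      ((s : Matrix (Fin n) (Fin n) F) * (g : Matrix (Fin n) (Fin n) F)) i j) h3
    simp only [coe_semiFun, mul_assoc, ← Units.val_mul, inv_mul_cancel, Units.val_one, mul_one] at h4
    rw [tv_cFlag, CfsgLib.Linear.transvec_coe, hd] at h4
    simpa [Matrix.diagonal_mul, Matrix.mul_diagonal, Matrix.transvection, Matrix.one_apply, hij] using h4
  have hd0 : ∀ i, d i ≠ 0 := fun i hi => by
    have hdet := Matrix.GeneralLinearGroup.det_ne_zero g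
    rw [hd, Matrix.det_diagonal] at hdet
    exact hdet (Finset.prod_eq_zero (Finset.mem_univ i) hi)
  have heq : ∀ i j, d i = d j := fun i j => by
    rcases eq_or_ne i j with rfl | hij
    · rfl
    · simpa using hrel i j hij 1
  refine ⟨RingEquiv.ext fun c => ?_, d ⟨0, by omega⟩, ?_⟩
  · obtain ⟨j, hj⟩ := exists_ne (⟨0, by omega⟩ : Fin n)
    have := hrel _ j hj.symm c
    rw [heq _ j, mul_comm c] at this
    exact mul_left_cancel₀ (hd0 j) this
  · rw [hd]
    ext a b
    rcases eq_or_ne a b with rfl | hab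
    · simpa using heq a ⟨0, by omega⟩
    · simp [hab]

theorem semiAut_scalar {g : GL (Fin n) F} {c : F} (h : (g : Matrix (Fin n) (Fin n) F) = c • 1) :
    semiAut g (RingEquiv.refl F) = 1 := by
  rw [← semiAut_one]
  refine aut_ext fun s => ?_
  rw [semiAut_mk, semiAut_mk]
  refine congrArg _ (Subtype.ext ?_)
  rw [coe_semiFun, coe_semiFun, Units.val_one, inv_one, Units.val_one, one_mul, mul_one, h,
    Matrix.smul_mul, one_mul, ← mul_one ((s : Matrix (Fin n) (Fin n) F).map _), ← Matrix.mul_smul, ← h]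
  rw [mul_assoc, ← Units.val_mul, mul_inv_cancel, Units.val_one]

/-- The field automorphism of a semilinear map is determined by the induced map of `PSL`. -/
theorem semiAut_eq_semiAut (hn : 2 ≤ n) {g h : GL (Fin n) F} {σ τ : F ≃+* F}
    (e : semiAut g σ = semiAut h τ) :
    σ = τ ∧ semiAut g (RingEquiv.refl F) = semiAut h (RingEquiv.refl F) := by
  have h1 : semiAut (glMap σ.symm g⁻¹) σ.symm * semiAut g σ = 1 := by
    rw [semiAut_mul, RingEquiv.self_trans_symm, ← map_mul, inv_mul_cancel, map_one, semiAut_one]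
  rw [e, semiAut_mul] at h1
  have hs := (semiAut_eq_one hn h1).1
  have hστ : σ = τ := RingEquiv.ext fun x => by
    have := RingEquiv.congr_fun hs x
    simp only [RingEquiv.trans_apply, RingEquiv.refl_apply] at this
    conv_lhs => rw [← this, RingEquiv.apply_symm_apply]
  subst hστ
  refine ⟨rfl, ?_⟩
  rw [semiAut_eq_inndiag_mul g, semiAut_eq_inndiag_mul h] at e
  exact mul_right_cancel e

/-- For `n ≥ 3` inverse-transpose is not semilinear. -/
theorem semiAut_ne_invTrans (hn : 3 ≤ n) (g : GL (Fin n) F) (σ : F ≃+* F) : semiAut g σ ≠ invTrans := by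
  intro h
  let a : Fin n := ⟨0, by omega⟩
  let b : Fin n := ⟨1, by omega⟩
  let c : Fin n := ⟨2, by omega⟩
  have hab : a ≠ b := by simp [a, b, Fin.ext_iff]
  have hac : a ≠ c := by simp [a, c, Fin.ext_iff]
  have hflag : ∀ j (hj : a ≠ j), SamePt ((cFlag (F := F) a j hj).semi g σ) (cFlag a j hj).swap := by
    intro j hj
    refine (rootGroup_eq_iff.mp ?_).1
    rw [← map_semiAut_rootGroup, h, map_invTrans_rootGroup]
  have h1 : SamePt (cFlag (F := F) a b hab).swap (cFlag a c hac).swap := by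
    refine (hflag b hab).symm.trans ?_
    exact SamePt.trans (Y := (cFlag (F := F) a c hac).semi g σ) ⟨1, (one_smul _ _).symm⟩ (hflag c hac)
  have h2 : SameHyp (cFlag (F := F) a b hab) (cFlag a c hac) := h1
  have := (sameHyp_cFlag hab hac).mp h2
  simp [b, c, Fin.ext_iff] at this

theorem semiAut_ne_semiAut_mul_invTrans (hn : 3 ≤ n) (g h : GL (Fin n) F) (σ τ : F ≃+* F) :
    semiAut g σ ≠ semiAut h τ * invTrans := by
  intro e
  apply semiAut_ne_invTrans hn (glMap τ.symm h⁻¹ * glMap τ.symm g) (σ.trans τ.symm)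
  have h1 : semiAut (glMap τ.symm h⁻¹) τ.symm * semiAut h τ = 1 := by
    rw [semiAut_mul, RingEquiv.self_trans_symm, ← map_mul, inv_mul_cancel, map_one, semiAut_one]
  calc semiAut (glMap τ.symm h⁻¹ * glMap τ.symm g) (σ.trans τ.symm)
      = semiAut (glMap τ.symm h⁻¹) τ.symm * semiAut g σ := by rw [semiAut_mul]
    _ = invTrans := by rw [e, ← mul_assoc, h1, one_mul]

theorem inndiag_normal (hn : 2 ≤ n) : (Cfsg.inndiagPSL n F).Normal := by
  refine ⟨fun x hx α => ?_⟩
  rw [inndiag_eq_range] at hx ⊢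
  obtain ⟨k, rfl⟩ := hx
  obtain ⟨g, σ, rfl | rfl⟩ := exists_semi_or_semi_invTrans hn α
  · refine ⟨g * glMap σ k * g⁻¹, ?_⟩
    rw [eq_mul_inv_iff_mul_eq, innDiagHom_apply, innDiagHom_apply, semiAut_mul, semiAut_mul, glMap_refl,
      inv_mul_cancel_right]
    rfl
  · refine ⟨g * glMap σ (dualGL k) * g⁻¹, ?_⟩
    rw [eq_mul_inv_iff_mul_eq, innDiagHom_apply, innDiagHom_apply, mul_assoc (semiAut g σ), invTrans_mul_semiAut,
      ← mul_assoc, ← mul_assoc, semiAut_mul, semiAut_mul, glMap_refl, inv_mul_cancel_right]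
    rfl

end Uniqueness

/-- For `n = 2`, inverse-transpose is inner. -/
theorem invTrans_mem_inn_two :
    (invTrans : MulAut (Matrix.ProjectiveSpecialLinearGroup (Fin 2) F)) ∈
      Cfsg.Inn (Matrix.ProjectiveSpecialLinearGroup (Fin 2) F) := by
  let w : Matrix.SpecialLinearGroup (Fin 2) F := ⟨!![0, 1; -1, 0], by simp [Matrix.det_fin_two]⟩
  refine ⟨QuotientGroup.mk w, aut_ext fun s => ?_⟩
  show _ = QuotientGroup.mk (invTransSL s)
  rw [MulAut.conj_apply, ← QuotientGroup.mk_inv, ← QuotientGroup.mk_mul, ← QuotientGroup.mk_mul]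
  refine congrArg _ (Subtype.ext ?_)
  change ((w * s * w⁻¹ : Matrix.SpecialLinearGroup (Fin 2) F) : Matrix (Fin 2) (Fin 2) F) =
    ((s⁻¹ : Matrix.SpecialLinearGroup (Fin 2) F) : Matrix (Fin 2) (Fin 2) F).transpose
  simp only [Matrix.SpecialLinearGroup.coe_mul, Matrix.SpecialLinearGroup.coe_inv, Matrix.adjugate_fin_two]
  ext i j
  fin_cases i <;> fin_cases j <;> simp [w, Matrix.mul_apply, Fin.sum_univ_two, Matrix.vecMul, dotProduct]

/-- For `n = 2` every automorphism is semilinear. -/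
theorem exists_semi_two [Finite F] (β : MulAut (Matrix.ProjectiveSpecialLinearGroup (Fin 2) F)) :
    ∃ (g : GL (Fin 2) F) (σ : F ≃+* F), β = semiAut g σ := by
  obtain ⟨g, σ, h | h⟩ := exists_semi_or_semi_invTrans le_rfl β
  · exact ⟨g, σ, h⟩
  obtain ⟨x, hx⟩ := invTrans_mem_inn_two (F := F)
  obtain ⟨k, rfl⟩ := QuotientGroup.mk_surjective x
  refine ⟨g * glMap σ (Matrix.SpecialLinearGroup.toGL k), σ, ?_⟩
  rw [h, ← hx, ← semiAut_toGL, semiAut_mul]
  rfl

theorem gammaPSL_sup_invTrans [Finite F] (hn : 2 ≤ n) :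
    Cfsg.gammaPSL n F ⊔ Cfsg.autSubgroupOf (fun β : Matrix.ProjectiveSpecialLinearGroup (Fin n) F ≃*
      Matrix.ProjectiveSpecialLinearGroup (Fin n) F => Cfsg.IsInverseTransposeAutPSL β) = ⊤ := by
  refine (Subgroup.eq_top_iff' _).mpr fun β => ?_
  obtain ⟨g, σ, h | h⟩ := exists_semi_or_semi_invTrans hn β
  · exact Subgroup.mem_sup_left (Subgroup.subset_closure ⟨g, σ, isInducedBySemilinear_iff.mpr h⟩)
  · subst h
    exact mul_mem (Subgroup.mem_sup_left (Subgroup.subset_closure ⟨g, σ, isInducedBySemilinear_iff.mpr rfl⟩))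
      (Subgroup.mem_sup_right (Subgroup.subset_closure (isInvTranspose_iff.mpr rfl)))

theorem exists_decomposition [Finite F] (hn : 2 ≤ n)
    (β : MulAut (Matrix.ProjectiveSpecialLinearGroup (Fin n) F)) :
    ∃ (δ φ γ : MulAut (Matrix.ProjectiveSpecialLinearGroup (Fin n) F)) (σ : F ≃+* F),
      Cfsg.IsInnerDiagonalAutPSL δ ∧ Cfsg.IsStdFieldAutPSL σ φ ∧
        (γ = 1 ∨ Cfsg.IsInverseTransposeAutPSL γ) ∧ β = δ * φ * γ := by
  obtain ⟨g, σ, h | h⟩ := exists_semi_or_semi_invTrans hn β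
  · exact ⟨_, _, 1, σ, isInnerDiagonal_iff.mpr ⟨g, rfl⟩, isStdField_iff.mpr rfl, Or.inl rfl,
      by rw [h, mul_one, ← semiAut_eq_inndiag_mul]⟩
  · exact ⟨_, _, invTrans, σ, isInnerDiagonal_iff.mpr ⟨g, rfl⟩, isStdField_iff.mpr rfl,
      Or.inr (isInvTranspose_iff.mpr rfl), by rw [h, ← semiAut_eq_inndiag_mul]⟩

end CfsgLib.AutPSL
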