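import Cfsg.Agent.AutPSL.FieldClasses
import Cfsg.Agent.Forms.OfBilin
import Cfsg.Agent.Forms.FiniteQ
import Cfsg.Agent.Unitary.Basic
import Mathlib.LinearAlgebra.SesquilinearForm.Basic

/-!
Graph-field involutions of `PSL_n`: classes, centraliser and splitting.
-/

set_option autoImplicit false

open Matrix

namespace CfsgLib.AutPSL

variable {F : Type*} [Field F] {n : ℕ}

/-- `g ↦ g^{-T}` as a homomorphism. -/
def dualHom : GL (Fin n) F →* GL (Fin n) F where
  toFun := dualGL
  map_one' := dualGL_one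
  map_mul' g h := Units.ext (by
    show ((g * h)⁻¹ : GL (Fin n) F).val.transpose = (g⁻¹ : GL (Fin n) F).val.transpose * (h⁻¹ : GL (Fin n) F).val.transpose
    rw [_root_.mul_inv_rev, Units.val_mul, Matrix.transpose_mul])

/-- `g ↦ σ(g)^{-T}`. -/
def starHom (σ : RingAut F) : GL (Fin n) F →* GL (Fin n) F := (glMap σ).comp dualHom

theorem starHom_apply (σ : RingAut F) (g : GL (Fin n) F) : starHom σ g = glMap σ (dualGL g) := rfl

theorem starHom_scalar (σ : RingAut F) (u : Fˣ) :
    starHom σ (Matrix.GeneralLinearGroup.scalar (Fin n) u) =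
      Matrix.GeneralLinearGroup.scalar (Fin n) (Units.map (σ : F →* F) u)⁻¹ := by
  have h : dualGL (Matrix.GeneralLinearGroup.scalar (Fin n) u) = Matrix.GeneralLinearGroup.scalar (Fin n) u⁻¹ := by
    apply Units.ext
    show ((Matrix.GeneralLinearGroup.scalar (Fin n) u)⁻¹ : GL (Fin n) F).val.transpose = _
    rw [← map_inv]
    exact Matrix.diagonal_transpose _
  rw [starHom_apply, h, glMap_scalar, map_inv]

theorem starHom_starHom (σ : RingAut F) (hσ2 : σ ^ 2 = 1) (g : GL (Fin n) F) :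
    starHom σ (starHom σ g) = g := by
  apply Units.ext
  show (((glMap σ (dualGL g))⁻¹ : GL (Fin n) F).val.transpose).map σ = g.val
  rw [← map_inv]
  ext a b
  show σ (σ (((dualGL g)⁻¹ : GL (Fin n) F).val.transpose a b)) = _
  rw [pow_two] at hσ2
  have h2 : ∀ x, σ (σ x) = x := RingEquiv.congr_fun hσ2
  rw [h2]
  rfl

theorem semiAut_graph_mul (g h : GL (Fin n) F) (σ : RingAut F) :
    (semiAut g σ * invTrans) * (semiAut h σ * invTrans) = semiAut (g * starHom σ h) (σ * σ) := by
  rw [mul_assoc, ← mul_assoc invTrans, invTrans_mul_semiAut, mul_assoc (semiAut (dualGL h) σ),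
    invTrans_mul_self, mul_one, semiAut_mul']
  rfl

variable [Finite F]

/-- A Hermitian matrix is `k σ(k)ᵀ`. -/
theorem exists_hermitian_eq (σ : RingAut F) (hσ : σ ≠ 1) (hσ2 : σ ^ 2 = 1)
    (g : GL (Fin n) F) (hg : g * starHom σ g = 1) :
    ∃ k : GL (Fin n) F, k * (starHom σ k)⁻¹ = g := by
  classical
  let s : F →+* F := (σ : F →+* F)
  have hs : s ≠ RingHom.id F := fun e => hσ (RingEquiv.ext fun x => RingHom.congr_fun e x)
  have hs2 : ∀ a, s (s a) = a := fun a => by
    rw [pow_two] at hσ2; exact RingEquiv.congr_fun hσ2 a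
  -- `g` is Hermitian
  have hsym : ∀ a b, σ ((g : Matrix (Fin n) (Fin n) F) a b) = (g : Matrix (Fin n) (Fin n) F) b a := by
    have h1 : (starHom σ g)⁻¹ = g := by rw [inv_eq_iff_mul_eq_one]; exact mul_eq_one_comm.mp hg
    intro a b
    have h2 := congrFun (congrFun (congrArg (fun k : GL (Fin n) F => (k : Matrix (Fin n) (Fin n) F)) h1) b) a
    rw [← h2, starHom_apply, ← map_inv]
    rfl
  let B : (Fin n → F) →ₛₗ[s] (Fin n → F) →ₗ[F] F :=
    LinearMap.mk₂'ₛₗ s (RingHom.id F)
      (fun u v => (fun i => s (u i)) ⬝ᵥ ((g : Matrix (Fin n) (Fin n) F) *ᵥ v))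
      (fun u u' v => by rw [← add_dotProduct]; congr 1; funext i; simp)
      (fun c u v => by rw [← smul_dotProduct]; congr 1; funext i; simp)
      (fun u v v' => by rw [Matrix.mulVec_add, dotProduct_add])
      (fun c u v => by rw [Matrix.mulVec_smul, dotProduct_smul]; rfl)
  have hB : ∀ u v, B u v = (fun i => s (u i)) ⬝ᵥ ((g : Matrix (Fin n) (Fin n) F) *ᵥ v) := fun u v => rfl
  have hS : B.IsSymm := ⟨fun u v => by
    rw [hB, hB]
    simp only [dotProduct, Matrix.mulVec, map_sum, map_mul, hs2, Finset.mul_sum]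
    rw [Finset.sum_comm]
    refine Finset.sum_congr rfl fun i _ => Finset.sum_congr rfl fun j _ => ?_
    rw [show s ((g : Matrix (Fin n) (Fin n) F) j i) = (g : Matrix (Fin n) (Fin n) F) i j from hsym j i]
    ring⟩
  have hnd : B.Nondegenerate := by
    have hl : ∀ u, (∀ v, B u v = 0) → u = 0 := fun u hu => by
      funext i
      have := hu (((g⁻¹ : GL (Fin n) F) : Matrix (Fin n) (Fin n) F) *ᵥ Pi.single i 1)
      rw [hB, Matrix.mulVec_mulVec, ← Units.val_mul, mul_inv_cancel, Units.val_one, Matrix.one_mulVec,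
        dotProduct_single, mul_one] at this
      exact s.injective (this.trans (map_zero s).symm)
    exact ⟨hl, fun v hv => hl v fun u => by rw [← hS.eq, show B u v = 0 from hv u, map_zero]⟩
  obtain ⟨b, hb⟩ := CfsgLib.Forms.exists_orthonormal_herm hs hs2 (CfsgLib.Forms.finite_norm_surjective hs hs2)
    n (Fin n → F) B hS hnd (Module.finrank_fin_fun F)
  let P : Matrix (Fin n) (Fin n) F := Matrix.of fun a i => b i a
  have hP : (P.map σ).transpose * (g : Matrix (Fin n) (Fin n) F) * P = 1 := by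
    ext i j
    have := hb i j
    rw [hB] at this
    rw [Matrix.one_apply, ← this, mul_assoc]
    rfl
  have hdet : P.det ≠ 0 := fun e => by
    have := congrArg Matrix.det hP
    rw [Matrix.det_mul, e, mul_zero, Matrix.det_one] at this
    exact zero_ne_one this
  let p : GL (Fin n) F := Matrix.GeneralLinearGroup.mkOfDetNeZero P hdet
  have hp : (starHom σ p)⁻¹ * g * p = 1 := by
    apply Units.ext
    rw [Units.val_mul, Units.val_mul, Units.val_one, starHom_apply, ← map_inv]
    refine Eq.trans ?_ hP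
    congr 2
  refine ⟨starHom σ p, ?_⟩
  rw [starHom_starHom σ hσ2]
  rw [mul_assoc, inv_mul_eq_iff_eq_mul, mul_one] at hp
  exact eq_mul_inv_iff_mul_eq.mpr hp |>.symm

theorem sq_eq_one_of_graph (hn : 3 ≤ n) {σ : RingAut F} {r : ℕ} (hr : r.Prime)
    (hord : orderOf (semiAut (1 : GL (Fin n) F) σ * invTrans) = r) : r = 2 ∧ σ ^ 2 = 1 := by
  have h := pow_orderOf_eq_one (semiAut (1 : GL (Fin n) F) σ * invTrans)
  rw [hord] at h
  have h2 := congrArg (outData hn) h
  rw [map_pow, map_one] at h2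
  have he : outData hn (semiAut (1 : GL (Fin n) F) σ * invTrans) = (σ, Multiplicative.ofAdd (1 : ZMod 2)) := by
    rw [← twist_ofAdd_one]; exact outData_apply hn 1 (σ, Multiplicative.ofAdd (1 : ZMod 2))
  rw [he, Prod.pow_mk, Prod.mk_eq_one] at h2
  have h3 : orderOf (Multiplicative.ofAdd (1 : ZMod 2)) = 2 :=
    orderOf_eq_prime (by decide) (by decide)
  have h4 : 2 ∣ r := h3 ▸ orderOf_dvd_of_pow_eq_one h2.2
  obtain rfl : (2 : ℕ) = r := (Nat.prime_dvd_prime_iff_eq Nat.prime_two hr).mp h4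
  exact ⟨rfl, h2.1⟩

theorem exists_conj_graph (hn : 2 ≤ n) {σ : RingAut F} (hσ : σ ≠ 1) (hσ2 : σ ^ 2 = 1)
    {g : GL (Fin n) F} (hg : (semiAut g σ * invTrans) ^ 2 = 1) :
    ∃ k : GL (Fin n) F, semiAut g σ * invTrans =
      semiAut k (RingEquiv.refl F) * (semiAut (1 : GL (Fin n) F) σ * invTrans) * (semiAut k (RingEquiv.refl F))⁻¹ := by
  have : NeZero n := ⟨by omega⟩
  rw [pow_two, semiAut_graph_mul, ← pow_two σ, hσ2] at hg
  obtain ⟨c, hc⟩ := (innDiag_eq_iff hn (g := 1)).mp (semiAut_one.trans hg.symm)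
  rw [one_mul] at hc
  have hσord : orderOf σ = 2 := orderOf_eq_prime hσ2 hσ
  have hN : autNorm σ 2 c = 1 := by
    have h1 := congrArg (starHom σ) hc
    rw [map_mul, starHom_starHom σ hσ2, starHom_scalar] at h1
    have h3 : g⁻¹ * (g * starHom σ g) * g = Matrix.GeneralLinearGroup.scalar (Fin n) c := by
      rw [hc, mul_assoc, scalar_comm, inv_mul_cancel_left]
    rw [inv_mul_cancel_left, h1] at h3
    have h5 : (Units.map (σ : F →* F) c)⁻¹ = c := scalar_inj h3
    show c * Units.map (σ : F →* F) (c * Units.map (σ : F →* F) (1 : Fˣ)) = 1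
    rw [map_one, mul_one]
    nth_rewrite 1 [← h5]
    exact inv_mul_cancel _
  obtain ⟨w, hw⟩ := exists_div_eq_of_autNorm σ hσ2 (injective_pow_of_orderOf hσord) (by norm_num) c hN
  set g' := Matrix.GeneralLinearGroup.scalar (Fin n) w⁻¹ * g with hg'
  have hherm : g' * starHom σ g' = 1 := by
    rw [hg', map_mul, starHom_scalar, map_inv (Units.map (σ : F →* F)), inv_inv,
      mul_assoc, ← mul_assoc g, ← scalar_comm, mul_assoc, hc, ← map_mul, ← map_mul,
      mul_comm _ c, hw, inv_mul_cancel, map_one]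
  obtain ⟨k, hk⟩ := exists_hermitian_eq σ hσ hσ2 g' hherm
  refine ⟨k, ?_⟩
  have hinv : (semiAut k (RingEquiv.refl F))⁻¹ = semiAut k⁻¹ (RingEquiv.refl F) := (map_inv (innDiagHom n F) k).symm
  rw [hinv, mul_assoc, mul_assoc _ invTrans, invTrans_mul_semiAut, ← mul_assoc, ← mul_assoc]
  show _ = semiAut k (1 : RingAut F) * semiAut (1 : GL (Fin n) F) σ * semiAut (dualGL k⁻¹) (1 : RingAut F) * invTrans
  rw [semiAut_mul', semiAut_mul', glMap_one_aut, mul_one, one_mul, mul_one,
    show glMap σ (dualGL k⁻¹) = starHom σ k⁻¹ from rfl, map_inv, hk, hg', scalar_comm,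
    semiAut_eq_inndiag_mul g σ, semiAut_eq_inndiag_mul (g * _), semiAut_mul_scalar]

theorem orderOf_eq_iff_isConjUnder_graphField {x δ : MulAut (Matrix.ProjectiveSpecialLinearGroup (Fin n) F)}
    (hx : Cfsg.IsGraphFieldAutClassPSL x) {r : ℕ} (hr : r.Prime) (hxr : orderOf x = r)
    (hδ : δ ∈ Cfsg.inndiagPSL n F) (hord : orderOf (δ * x) = r) :
    Cfsg.IsConjUnder (Cfsg.inndiagPSL n F) x (δ * x) := by
  have hn : 3 ≤ n := hx.1
  obtain ⟨σ, hσ, h, hh, rfl⟩ := graphFieldClass_normalForm hx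
  rw [orderOf_conj'] at hxr
  obtain ⟨rfl, hσ2⟩ := sq_eq_one_of_graph hn hr hxr
  rw [isConjUnder_iff_conj hh]
  have hd : h⁻¹ * δ * h ∈ Cfsg.inndiagPSL n F := mul_mem (mul_mem (inv_mem hh) hδ) hh
  rw [inndiag_eq_range] at hd
  obtain ⟨g, hg⟩ := hd
  have e : h⁻¹ * (δ * (h * (semiAut (1 : GL (Fin n) F) σ * invTrans) * h⁻¹)) * h = semiAut g σ * invTrans := by
    rw [semiAut_eq_inndiag_mul g σ, ← innDiagHom_apply, hg]; group
  have hord' : (semiAut g σ * invTrans) ^ 2 = 1 := by
    rw [← e]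
    have h2 : (δ * (h * (semiAut (1 : GL (Fin n) F) σ * invTrans) * h⁻¹)) ^ 2 = 1 := hord ▸ pow_orderOf_eq_one _
    calc (h⁻¹ * (δ * (h * (semiAut (1 : GL (Fin n) F) σ * invTrans) * h⁻¹)) * h) ^ 2
        = h⁻¹ * (δ * (h * (semiAut (1 : GL (Fin n) F) σ * invTrans) * h⁻¹)) ^ 2 * h := by
          rw [pow_two, pow_two]; group
      _ = 1 := by rw [h2, mul_one, inv_mul_cancel]
  obtain ⟨k, hk⟩ := exists_conj_graph (by omega) hσ hσ2 hord'
  rw [e]
  exact ⟨_, inndiag_eq_range (F := F) ▸ ⟨k, rfl⟩, hk⟩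

/-! ### The unitary centraliser -/

variable {σ : RingAut F}

theorem centralizer_graph_eq (hn : 2 ≤ n) (hσ : σ ≠ 1) (hσ2 : σ ^ 2 = 1) :
    Cfsg.inndiagPSL n F ⊓ Subgroup.centralizer {semiAut (1 : GL (Fin n) F) σ * invTrans} =
      ((starHom (n := n) σ).eqLocus (MonoidHom.id _)).map (innDiagHom n F) := by
  have : NeZero n := ⟨by omega⟩
  rw [inndiag_eq_range]
  have hcomm : ∀ g : GL (Fin n) F,
      semiAut g (RingEquiv.refl F) * (semiAut (1 : GL (Fin n) F) σ * invTrans) =
          semiAut (1 : GL (Fin n) F) σ * invTrans * semiAut g (RingEquiv.refl F) ↔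
        semiAut g (RingEquiv.refl F) = semiAut (starHom σ g) (RingEquiv.refl F) := fun g => by
    show semiAut g (1 : RingAut F) * (semiAut 1 σ * invTrans) = semiAut 1 σ * invTrans * semiAut g (1 : RingAut F) ↔ _
    rw [mul_assoc _ invTrans, invTrans_mul_semiAut, ← mul_assoc, ← mul_assoc]
    show semiAut g (1 : RingAut F) * semiAut 1 σ * invTrans = semiAut 1 σ * semiAut (dualGL g) (1 : RingAut F) * invTrans ↔ _
    rw [semiAut_mul', semiAut_mul', glMap_one_aut, mul_one, one_mul, one_mul, mul_one, mul_left_inj]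
    refine ⟨fun e => (semiAut_eq_semiAut hn e).2, fun e => ?_⟩
    rw [semiAut_eq_inndiag_mul g σ, e, ← semiAut_eq_inndiag_mul]
    rfl
  ext x
  constructor
  · rintro ⟨⟨g, rfl⟩, hc⟩
    obtain ⟨c, hc'⟩ := (innDiag_eq_iff hn).mp ((hcomm g).mp (Subgroup.mem_centralizer_singleton_iff.mp hc))
    have h2 := congrArg (starHom σ) hc'
    rw [starHom_starHom σ hσ2, map_mul, hc', starHom_scalar, mul_assoc, left_eq_mul, ← map_mul,
      ← map_one (Matrix.GeneralLinearGroup.scalar (Fin n) (R := F))] at h2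
    have hfix : Units.map (σ : F →* F) c = c := (mul_inv_eq_one.mp (scalar_inj h2)).symm
    obtain ⟨w, hw⟩ := exists_autNorm_eq σ hσ2 (injective_pow_of_orderOf (orderOf_eq_prime hσ2 hσ)) (by norm_num) c hfix
    have hw' : w * Units.map (σ : F →* F) w = c := by
      rw [← hw]
      show _ = w * Units.map (σ : F →* F) (w * Units.map (σ : F →* F) (1 : Fˣ))
      rw [map_one, mul_one]
    refine ⟨g * Matrix.GeneralLinearGroup.scalar (Fin n) w, ?_, ?_⟩
    · show starHom σ (g * _) = _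
      rw [map_mul, hc', starHom_scalar, mul_assoc, ← map_mul, ← hw', mul_inv_cancel_right]
      rfl
    · rw [innDiagHom_apply, semiAut_mul_scalar]; rfl
  · rintro ⟨g, hg, rfl⟩
    refine Subgroup.mem_inf.mpr ⟨⟨g, rfl⟩, Subgroup.mem_centralizer_singleton_iff.mpr ?_⟩
    exact (hcomm g).mpr (by rw [show starHom σ g = g from hg])

theorem det_starHom_fixed [NeZero n] (hσ2 : σ ^ 2 = 1) :
    ((starHom (n := n) σ).eqLocus (MonoidHom.id _)).map Matrix.GeneralLinearGroup.det = (autNorm σ 2).ker := by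
  have hdet : ∀ g : GL (Fin n) F, Matrix.GeneralLinearGroup.det (starHom σ g) =
      (Units.map (σ : F →* F) (Matrix.GeneralLinearGroup.det g))⁻¹ := fun g => by
    rw [← map_inv, ← map_inv]
    apply Units.ext
    show (((g⁻¹ : GL (Fin n) F) : Matrix (Fin n) (Fin n) F).transpose.map σ).det = σ ((Matrix.GeneralLinearGroup.det g⁻¹ : Fˣ) : F)
    rw [det_map_ringEquiv, Matrix.det_transpose]
    rfl
  have hker : ∀ u : Fˣ, u ∈ (autNorm σ 2).ker ↔ u = (Units.map (σ : F →* F) u)⁻¹ := fun u => by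
    rw [MonoidHom.mem_ker, eq_inv_iff_mul_eq_one]
    show u * Units.map (σ : F →* F) (u * Units.map (σ : F →* F) (1 : Fˣ)) = 1 ↔ _
    rw [map_one, mul_one]
  ext u
  rw [hker]
  constructor
  · rintro ⟨g, hg, rfl⟩
    rw [← hdet, show starHom σ g = g from hg]
  · intro hu
    refine ⟨diagOne u, ?_, det_diagOne u⟩
    show starHom σ (diagOne u) = diagOne u
    apply Units.ext
    show (((diagOne u)⁻¹ : GL (Fin n) F) : Matrix (Fin n) (Fin n) F).transpose.map σ = _
    rw [← map_inv]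
    show (Matrix.diagonal (Pi.mulSingle (0 : Fin n) ((u⁻¹ : Fˣ) : F))).transpose.map σ = Matrix.diagonal (Pi.mulSingle 0 (u : F))
    rw [Matrix.diagonal_transpose, Matrix.diagonal_map (map_zero σ)]
    congr 1
    funext i
    have hu' : σ ((u⁻¹ : Fˣ) : F) = (u : F) := by
      conv_rhs => rw [hu, ← map_inv]
      rfl
    rcases eq_or_ne i 0 with rfl | hi
    · simpa using hu'
    · simp [hi]

theorem index_ker_autNorm_two (hσ : σ ≠ 1) (hσ2 : σ ^ 2 = 1) :
    (autNorm σ 2).ker.index = Nat.card (fixField σ) - 1 := by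
  rw [Subgroup.index_ker]
  have : (autNorm σ 2).range = fixUnits σ := by
    ext c
    rw [mem_fixUnits]
    refine ⟨?_, fun hc => exists_autNorm_eq σ hσ2 (injective_pow_of_orderOf (orderOf_eq_prime hσ2 hσ)) (by norm_num) c hc⟩
    rintro ⟨u, rfl⟩
    have := map_autNorm_mul σ 2 u
    rw [hσ2] at this
    exact mul_right_cancel (this.trans (by rfl))
  rw [this, fixUnits, ← Nat.card_congr (MonoidHom.ofInjective (Units.map_injective Subtype.val_injective)).toEquiv,
    Nat.card_units]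

omit [Finite F] in
theorem starHom_fixed_eq_GU [Finite F] {q : ℕ} (hσ2 : σ ^ 2 = 1) (hq : ∀ a, σ a = a ^ q) :
    (starHom (n := n) σ).eqLocus (MonoidHom.id _) = Cfsg.GU n F q := by
  ext g
  have hM : starHom σ g = g ↔ (g : Matrix (Fin n) (Fin n) F).transpose * (g : Matrix (Fin n) (Fin n) F).map σ = 1 := by
    rw [starHom_apply]
    constructor
    · intro h
      have h1 : glMap σ g = dualGL g := by
        have := congrArg (starHom σ) h
        rw [← starHom_apply, starHom_starHom σ hσ2] at this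
        have h2 := congrArg (glMap σ) h
        rw [← glMap_mul_aut, ← pow_two, hσ2, glMap_one_aut] at h2
        exact h2.symm
      show _ * (glMap σ g : Matrix (Fin n) (Fin n) F) = 1
      rw [h1]
      exact ((dualGL g).inv_val)
    · intro h
      have h1 : glMap σ g = dualGL g := Units.ext (by
        have h' : (dualGL g).inv * (glMap σ g : Matrix (Fin n) (Fin n) F) = 1 := h
        calc (glMap σ g : Matrix (Fin n) (Fin n) F) = (dualGL g).val * ((dualGL g).inv * (glMap σ g : Matrix (Fin n) (Fin n) F)) := by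
              rw [← mul_assoc, (dualGL g).val_inv, one_mul]
          _ = _ := by rw [h', mul_one])
      have h2 := congrArg (glMap σ) h1
      rw [← glMap_mul_aut, ← pow_two, hσ2, glMap_one_aut] at h2
      exact h2.symm
  show starHom σ g = g ↔ _
  rw [hM, CfsgLib.Unitary.mem_GU_iff]
  have hform : ∀ u v : Fin n → F, Cfsg.hermForm n F q u v = u ⬝ᵥ fun i => σ (v i) := fun u v => by
    simp [Cfsg.hermForm, dotProduct, hq]
  have hmap : ∀ v : Fin n → F, (fun i => σ (((g : Matrix (Fin n) (Fin n) F) *ᵥ v) i)) =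
      (g : Matrix (Fin n) (Fin n) F).map σ *ᵥ fun i => σ (v i) := fun v => by
    funext i; simp [Matrix.mulVec, dotProduct, map_sum]
  constructor
  · intro h u v
    rw [hform, hform, hmap, Matrix.dotProduct_mulVec, ← Matrix.vecMul_transpose, Matrix.vecMul_vecMul, h,
      Matrix.vecMul_one]
  · intro h
    ext a b
    have := h (Pi.single a 1) (Pi.single b 1)
    rw [hform, hform, hmap] at this
    have hs : (fun i => σ ((Pi.single b 1 : Fin n → F) i)) = Pi.single b 1 := by
      funext i; rcases eq_or_ne i b with rfl | hi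
      · simp
      · simp [hi]
    rw [hs, Matrix.mulVec_single_one, Matrix.mulVec_single_one, single_dotProduct, one_mul] at this
    rw [Matrix.one_apply]
    refine (Eq.trans ?_ this).trans ?_
    · simp [Matrix.mul_apply, dotProduct]
    · rw [Pi.single_apply]

/-- Graph-field involutions: conjugacy, centraliser, splitting. -/
theorem graphField_centralizer [Fintype F] {p f : ℕ} [Fact p.Prime] (hf : 1 ≤ f) (hF : Fintype.card F = p ^ f)
    (hn : 3 ≤ n) {x : MulAut (Matrix.ProjectiveSpecialLinearGroup (Fin n) F)} (hx : Cfsg.IsGraphFieldAutClassPSL x)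
    (hx2 : orderOf x = 2) :
    Even f ∧ (∀ y : MulAut (Matrix.ProjectiveSpecialLinearGroup (Fin n) F), Cfsg.IsGraphFieldAutClassPSL y →
        orderOf y = 2 → Cfsg.IsConjUnder (Cfsg.inndiagPSL n F) x y) ∧
      Nonempty (↥(Cfsg.inndiagPSL n F ⊓ Subgroup.centralizer {x}) ≃* Cfsg.PGU n F (p ^ (f / 2))) ∧
      Cfsg.splitClassCount (Cfsg.inndiagPSL n F) (Cfsg.Inn (Matrix.ProjectiveSpecialLinearGroup (Fin n) F)) x =
        Nat.gcd n (p ^ (f / 2) - 1) := by
  classical
  have : NeZero n := ⟨by omega⟩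
  have hn2 : 2 ≤ n := by omega
  obtain ⟨σ, hσ, h, hh, rfl⟩ := graphFieldClass_normalForm hx
  rw [orderOf_conj'] at hx2
  obtain ⟨-, hσ2⟩ := sq_eq_one_of_graph hn Nat.prime_two hx2
  obtain ⟨eA⟩ := nonempty_ringAut_equiv (F := F) hf hF
  have hσord : orderOf σ = 2 := orderOf_eq_prime hσ2 hσ
  have hev : 2 ∣ f := by
    have h1 := orderOf_dvd_natCard σ
    rwa [hσord, Nat.card_congr eA.toEquiv, Nat.card_congr Multiplicative.toAdd, Nat.card_zmod] at h1
  have : NeZero f := ⟨by omega⟩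
  -- the involution is unique
  have huniq : ∀ τ : RingAut F, τ ^ 2 = 1 → τ ≠ 1 → τ = σ := by
    intro τ h2 h1
    let K := (powMonoidHom 2 : Multiplicative (ZMod f) →* Multiplicative (ZMod f)).ker
    have hK2 : Nat.card K = 2 := by
      rw [IsCyclic.card_powMonoidHom_ker, Nat.card_congr Multiplicative.toAdd, Nat.card_zmod]
      exact Nat.gcd_eq_right hev
    have hmem : ∀ ρ : RingAut F, ρ ^ 2 = 1 → eA ρ ∈ K := fun ρ hρ => by
      rw [MonoidHom.mem_ker, powMonoidHom_apply, ← map_pow, hρ, map_one]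
    have hne : ∀ ρ : RingAut F, ρ ≠ 1 → eA ρ ≠ 1 := fun ρ hρ e => hρ (eA.injective (e.trans (map_one eA).symm))
    obtain ⟨y, -, hy⟩ := (Nat.card_eq_two_iff' (1 : K)).mp hK2
    have e1 := hy ⟨eA τ, hmem τ h2⟩ fun e => hne τ h1 (congrArg Subtype.val e)
    have e2 := hy ⟨eA σ, hmem σ hσ2⟩ fun e => hne σ hσ (congrArg Subtype.val e)
    exact eA.injective (congrArg Subtype.val (e1.trans e2.symm))
  set q := p ^ (f / 2) with hqdef
  have hq2 : Nat.card F = q ^ 2 := by
    rw [Nat.card_eq_fintype_card, hF, hqdef, ← pow_mul, Nat.div_mul_cancel hev]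
  let τ : RingAut F := RingEquiv.ofBijective (CfsgLib.Forms.frobQ hq2)
    (Function.Involutive.bijective (CfsgLib.Forms.frobQ_invol hq2))
  have hτ : τ = σ := huniq τ (by rw [pow_two]; exact RingEquiv.ext (CfsgLib.Forms.frobQ_invol hq2))
    (fun e => CfsgLib.Forms.frobQ_ne_id hq2 (RingHom.ext fun a => RingEquiv.congr_fun e a))
  have hqa : ∀ a, σ a = a ^ q := fun a => by rw [← hτ]; rfl
  refine ⟨even_iff_two_dvd.mpr hev, fun y hy hy2 => ?_, ?_, ?_⟩
  · obtain ⟨σ', hσ', h', hh', rfl⟩ := graphFieldClass_normalForm hy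
    rw [orderOf_conj'] at hy2
    obtain rfl := huniq σ' (sq_eq_one_of_graph hn Nat.prime_two hy2).2 hσ'
    exact ⟨h' * h⁻¹, mul_mem hh' (inv_mem hh), by group⟩
  · obtain ⟨e1⟩ := centralizer_conj_equiv (H := Cfsg.inndiagPSL n F)
      (x := semiAut (1 : GL (Fin n) F) σ * invTrans) hh
    let ψ : ↥(Cfsg.GU n F q) →* MulAut (Matrix.ProjectiveSpecialLinearGroup (Fin n) F) :=
      (innDiagHom n F).comp (Cfsg.GU n F q).subtype
    have hrange : Cfsg.inndiagPSL n F ⊓ Subgroup.centralizer {semiAut (1 : GL (Fin n) F) σ * invTrans} = ψ.range := by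
      rw [centralizer_graph_eq hn2 hσ hσ2, starHom_fixed_eq_GU hσ2 hqa, MonoidHom.range_comp, Subgroup.range_subtype]
    have hker : ψ.ker = (Cfsg.Geo.scalars (Fin n) F).subgroupOf (Cfsg.GU n F q) := by
      rw [← MonoidHom.comap_ker, ker_innDiagHom hn2, Matrix.GeneralLinearGroup.center_eq_range_scalar]
      rfl
    exact ⟨e1.trans <| (MulEquiv.subgroupCongr hrange).trans <|
      (QuotientGroup.quotientKerEquivRange _).symm.trans (QuotientGroup.quotientMulEquivOfEq hker)⟩
  · have hK : Nat.card (fixField σ) = q := by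
      have h1 := card_fixField_pow σ hσord
      rw [hq2] at h1
      exact Nat.pow_left_injective two_ne_zero h1
    rw [splitClassCount_conj hh, splitClassCount_eq _ _ inn_le_inndiag, centralizer_graph_eq hn2 hσ hσ2,
      relIndex_inn_sup hn2 _ _ (det_starHom_fixed hσ2), index_ker_autNorm_two hσ hσ2, hK]

end CfsgLib.AutPSL
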