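import Cfsg.Agent.AutPSL.Unipotent

/-!
`Aut (PSL_n(q))` consists of semilinear maps, possibly times inverse-transpose.
-/

set_option autoImplicit false

open Matrix

namespace CfsgLib.AutPSL

variable {F : Type*} [Field F] {n : ℕ}

/-- Coordinate flags. -/
def cFlag (i j : Fin n) (h : i ≠ j) : Flag F n where
  pt := Pi.single i 1
  hyp := Pi.single j 1
  pt_ne := Pi.single_ne_zero_iff.mpr one_ne_zero
  hyp_ne := Pi.single_ne_zero_iff.mpr one_ne_zero
  orth := by rw [single_dotProduct, one_mul, Pi.single_eq_of_ne h.symm]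

theorem tv_cFlag (i j : Fin n) (h : i ≠ j) (c : F) :
    tv (cFlag i j h) c = Matrix.SpecialLinearGroup.transvection h c := by
  apply Subtype.ext
  rw [coe_tv, CfsgLib.Linear.transvec_coe]
  ext a b
  simp only [cFlag, Matrix.transvection, Matrix.add_apply, Matrix.smul_apply, Matrix.vecMulVec_apply,
    Matrix.single_apply, Pi.single_apply, smul_eq_mul]
  rcases eq_or_ne a i with ha | ha <;> rcases eq_or_ne b j with hb | hb <;>
    [simp [ha, hb]; simp [ha, hb, hb.symm]; simp [ha, hb, ha.symm]; simp [ha, hb, ha.symm]]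

theorem samePt_cFlag {i j k l : Fin n} (h : i ≠ j) (h' : k ≠ l) :
    SamePt (cFlag (F := F) i j h) (cFlag k l h') ↔ i = k := by
  constructor
  · rintro ⟨c, hc⟩
    by_contra hne
    have := congrFun hc k
    simp [cFlag, Pi.single_eq_of_ne (Ne.symm hne)] at this
  · rintro rfl; exact ⟨1, (one_smul _ _).symm⟩

theorem sameHyp_cFlag {i j k l : Fin n} (h : i ≠ j) (h' : k ≠ l) :
    SameHyp (cFlag (F := F) i j h) (cFlag k l h') ↔ j = l := by
  constructor
  · rintro ⟨c, hc⟩
    by_contra hne
    have := congrFun hc l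
    simp [cFlag, Pi.single_eq_of_ne (Ne.symm hne)] at this
  · rintro rfl; exact ⟨1, (one_smul _ _).symm⟩

theorem exists_notMem_of_ne_univ {α : Type*} [Fintype α] {s : Finset α} (h : s ≠ Finset.univ) :
    ∃ a, a ∉ s := by
  by_contra h'
  push Not at h'
  exact h (Finset.eq_univ_of_forall h')

/-- A matrix whose columns pair diagonally with a family of functionals is invertible. -/
theorem det_ne_zero_of_dual (p φ : Fin n → Fin n → F) (h0 : ∀ i j, i ≠ j → φ j ⬝ᵥ p i = 0)
    (h1 : ∀ i, φ i ⬝ᵥ p i ≠ 0) : (Matrix.of fun a i => p i a).det ≠ 0 := by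
  have h : Matrix.of φ * Matrix.of (fun a i => p i a) = Matrix.diagonal fun i => φ i ⬝ᵥ p i := by
    ext j i
    rcases eq_or_ne i j with rfl | hne
    · simp [Matrix.mul_apply, dotProduct]
    · rw [Matrix.diagonal_apply_ne _ hne.symm]
      exact h0 i j hne
  intro hdet
  have := congrArg Matrix.det h
  rw [Matrix.det_mul, hdet, mul_zero, Matrix.det_diagonal] at this
  exact Finset.prod_ne_zero_iff.mpr (fun i _ => h1 i) this.symm

theorem slext_generators [NeZero n] (hn : 2 ≤ n)
    (γ δ : MulAut (Matrix.ProjectiveSpecialLinearGroup (Fin n) F))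
    (h : ∀ i j (hij : i ≠ j) (c : F), γ (QuotientGroup.mk (Matrix.SpecialLinearGroup.transvection hij c)) =
      δ (QuotientGroup.mk (Matrix.SpecialLinearGroup.transvection hij c))) : γ = δ := by
  have : Nontrivial (Fin n) := Fin.nontrivial_iff_two_le.mpr hn
  refine aut_ext fun s => ?_
  refine CfsgLib.Linear.transvection_induction
    (fun s => γ (QuotientGroup.mk s) = δ (QuotientGroup.mk s)) h (fun A B hA hB => ?_) s
  rw [QuotientGroup.mk_mul, map_mul, map_mul, hA, hB]

variable [Finite F]

theorem rel_map (hn : 2 ≤ n) (α : MulAut (Matrix.ProjectiveSpecialLinearGroup (Fin n) F))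
    {R S : Subgroup (Matrix.ProjectiveSpecialLinearGroup (Fin n) F)} (h : Rel R S) :
    Rel (R.map α.toMonoidHom) (S.map α.toMonoidHom) := by
  rcases h with rfl | ⟨hc, T, h1, h2, h3⟩
  · exact Or.inl rfl
  obtain ⟨T', hT'⟩ := exists_map_rootGroup hn α T
  refine Or.inr ⟨?_, T', ?_, ?_, ?_⟩
  · rintro _ ⟨x, hx, rfl⟩ _ ⟨y, hy, rfl⟩
    rw [← map_mul, ← map_mul, hc x hx y hy]
  · rw [← hT']; exact fun h => h1 (Subgroup.map_injective α.injective h)
  · rw [← hT']; exact fun h => h2 (Subgroup.map_injective α.injective h)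
  · rw [← hT', ← Subgroup.map_sup]; exact Subgroup.map_mono h3

theorem rel_map_iff (hn : 2 ≤ n) (α : MulAut (Matrix.ProjectiveSpecialLinearGroup (Fin n) F))
    {R S : Subgroup (Matrix.ProjectiveSpecialLinearGroup (Fin n) F)} :
    Rel (R.map α.toMonoidHom) (S.map α.toMonoidHom) ↔ Rel R S := by
  refine ⟨fun h => ?_, rel_map hn α⟩
  have h' := rel_map hn α⁻¹ h
  have hid : (α⁻¹ : MulAut _).toMonoidHom.comp α.toMonoidHom =
      MonoidHom.id (Matrix.ProjectiveSpecialLinearGroup (Fin n) F) :=
    MonoidHom.ext fun x => by simp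
  rwa [Subgroup.map_map, Subgroup.map_map, hid, Subgroup.map_id, Subgroup.map_id] at h'

/-- Up to inverse-transpose, the images of coordinate root groups in one row share their point,
and those in one column share their hyperplane. -/
theorem exists_orientation (hn : 2 ≤ n) (β : MulAut (Matrix.ProjectiveSpecialLinearGroup (Fin n) F)) :
    ∃ γ : MulAut (Matrix.ProjectiveSpecialLinearGroup (Fin n) F), (γ = β ∨ γ = invTrans * β) ∧
      ∃ Y : ∀ i j : Fin n, i ≠ j → Flag F n,
        (∀ i j h, (rootGroup (cFlag i j h)).map γ.toMonoidHom = rootGroup (Y i j h)) ∧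
        (∀ i j k h h', SamePt (Y i j h) (Y i k h')) ∧
        (∀ i l j h h', SameHyp (Y i j h) (Y l j h')) := by
  classical
  choose Y hY using fun (i j : Fin n) (h : i ≠ j) => exists_map_rootGroup hn β (cFlag i j h)
  have key : ∀ i j k l h h', SamePt (Y i j h) (Y k l h') ∨ SameHyp (Y i j h) (Y k l h') ↔ i = k ∨ j = l := by
    intro i j k l h h'
    rw [← rel_iff, ← hY i j h, ← hY k l h', rel_map_iff hn, rel_iff, samePt_cFlag, sameHyp_cFlag]
  have inj : ∀ i j k l h h', SamePt (Y i j h) (Y k l h') → SameHyp (Y i j h) (Y k l h') → i = k ∧ j = l := by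
    intro i j k l h h' h1 h2
    have he := rootGroup_eq_iff.mpr ⟨h1, h2⟩
    rw [← hY i j h, ← hY k l h'] at he
    have := rootGroup_eq_iff.mp (Subgroup.map_injective β.injective he)
    exact ⟨(samePt_cFlag h h').mp this.1, (sameHyp_cFlag h h').mp this.2⟩
  -- within a row the type is constant
  have row : ∀ i j k l hj hk hl, j ≠ k → SamePt (Y i j hj) (Y i k hk) → SamePt (Y i j hj) (Y i l hl) := by
    intro i j k l hj hk hl hjk hP
    by_cases hjl : j = l
    · subst hjl; exact ⟨1, (one_smul _ _).symm⟩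
    by_cases hkl : k = l
    · subst hkl; exact hP
    rcases (key i j i l hj hl).mpr (Or.inl rfl) with h | h
    · exact h
    rcases (key i k i l hk hl).mpr (Or.inl rfl) with h' | h'
    · exact hP.trans h'
    · exact absurd (inj i j i k hj hk hP (h.trans h'.symm)).2 hjk
  have rowcol : ∀ i j k l hij hik hlj, j ≠ k → l ≠ i → SamePt (Y i j hij) (Y i k hik) →
      SameHyp (Y i j hij) (Y l j hlj) := by
    intro i j k l hij hik hlj hjk hli hP
    rcases (key i j l j hij hlj).mpr (Or.inr rfl) with h | h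
    · rcases (key i k l j hik hlj).mp (Or.inl (hP.symm.trans h)) with e | e
      · exact absurd e.symm hli
      · exact absurd e.symm hjk
    · exact h
  have colrow : ∀ i j l m hij hlj hlm, l ≠ i → m ≠ j → SameHyp (Y i j hij) (Y l j hlj) →
      SamePt (Y l j hlj) (Y l m hlm) := by
    intro i j l m hij hlj hlm hli hmj hH
    rcases (key l j l m hlj hlm).mpr (Or.inl rfl) with h | h
    · exact h
    · rcases (key i j l m hij hlm).mp (Or.inr (hH.trans h)) with e | e
      · exact absurd e.symm hli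
      · exact absurd e.symm hmj
  by_cases hall : ∀ i j k h h', SamePt (Y i j h) (Y i k h')
  · refine ⟨β, Or.inl rfl, Y, hY, hall, fun i l j h h' => ?_⟩
    by_cases hli : l = i
    · subst hli; exact ⟨1, (one_smul _ _).symm⟩
    obtain ⟨k, hk⟩ : ∃ k : Fin n, k ∉ ({i, j} : Finset (Fin n)) := by
      apply exists_notMem_of_ne_univ
      intro hu
      have h2 : l ∈ ({i, j} : Finset (Fin n)) := hu ▸ Finset.mem_univ l
      simp [hli, h'] at h2
    simp only [Finset.mem_insert, Finset.mem_singleton, not_or] at hk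
    exact rowcol i j k l h (Ne.symm hk.1) h' (Ne.symm hk.2) hli (hall i j k h (Ne.symm hk.1))
  · -- otherwise no row pair shares a point
    push Not at hall
    obtain ⟨a, b, c, hab, hac, hnP⟩ := hall
    have hnone : ∀ i j k h h', j ≠ k → ¬ SamePt (Y i j h) (Y i k h') := by
      intro i j k h h' hjk hP
      have hbc : b ≠ c := fun e => by subst e; exact hnP ⟨1, (one_smul _ _).symm⟩
      apply hnP
      -- row `i` is of point type, hence so is row `a`
      have hrow : ∀ x hx y hy, SamePt (Y i x hx) (Y i y hy) := fun x hx y hy =>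
        (row i j k x h h' hx hjk hP).symm.trans (row i j k y h h' hy hjk hP)
      by_cases hai : a = i
      · subst hai; exact hrow _ _ _ _
      -- a column avoiding `a` and `i`
      obtain ⟨m, hm⟩ : ∃ m : Fin n, m ∉ ({i, a} : Finset (Fin n)) := by
        apply exists_notMem_of_ne_univ
        intro hu
        have h2 : b ∈ ({i, a} : Finset (Fin n)) := hu ▸ Finset.mem_univ b
        have h3 : c ∈ ({i, a} : Finset (Fin n)) := hu ▸ Finset.mem_univ c
        simp [hab.symm, hac.symm] at h2 h3
        exact hbc (h2.trans h3.symm)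
      simp only [Finset.mem_insert, Finset.mem_singleton, not_or] at hm
      obtain ⟨m', hm'i, hm'm⟩ : ∃ m' : Fin n, i ≠ m' ∧ m ≠ m' := ⟨a, Ne.symm hai, hm.2⟩
      have hH := rowcol i m m' a (Ne.symm hm.1) hm'i (Ne.symm hm.2) hm'm hai (hrow _ _ _ _)
      have hrowa : ∀ x hx, SamePt (Y a m (Ne.symm hm.2)) (Y a x hx) := fun x hx => by
        by_cases hxm : x = m
        · subst hxm; exact ⟨1, (one_smul _ _).symm⟩
        · exact colrow i m a x (Ne.symm hm.1) (Ne.symm hm.2) hx hai hxm hH
      exact (hrowa b hab).symm.trans (hrowa c hac)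
    have hmap : ∀ i j h, (rootGroup (cFlag (F := F) i j h)).map (invTrans * β).toMonoidHom =
        rootGroup (Y i j h).swap := fun i j h => by
      rw [← map_invTrans_rootGroup, ← hY i j h, Subgroup.map_map]
      rfl
    refine ⟨invTrans * β, Or.inr rfl, fun i j h => (Y i j h).swap, hmap, ?_, ?_⟩
    · intro i j k h h'
      by_cases hjk : j = k
      · subst hjk; exact ⟨1, (one_smul _ _).symm⟩
      exact ((key i j i k h h').mpr (Or.inl rfl)).resolve_left (hnone i j k h h' hjk)
    · intro i l j h h'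
      show SamePt (Y i j h) (Y l j h')
      by_cases hli : l = i
      · subst hli; exact ⟨1, (one_smul _ _).symm⟩
      rcases (key i j l j h h').mpr (Or.inr rfl) with hp | hh
      · exact hp
      · -- column type hyperplane forces row type point at `(l, j)`
        obtain ⟨m, hm⟩ : ∃ m : Fin n, m ∉ ({l, j} : Finset (Fin n)) := by
          apply exists_notMem_of_ne_univ
          intro hu
          have h2 : i ∈ ({l, j} : Finset (Fin n)) := hu ▸ Finset.mem_univ i
          simp [Ne.symm hli, h] at h2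
        simp only [Finset.mem_insert, Finset.mem_singleton, not_or] at hm
        exact absurd (colrow i j l m h h' (Ne.symm hm.1) hli hm.2 hh) (hnone l j m h' (Ne.symm hm.1) (Ne.symm hm.2))

/-- After composing with a semilinear map all coordinate root groups are fixed. -/
theorem exists_fix_coordinate (hn : 2 ≤ n) (γ : MulAut (Matrix.ProjectiveSpecialLinearGroup (Fin n) F))
    (Y : ∀ i j : Fin n, i ≠ j → Flag F n)
    (hY : ∀ i j h, (rootGroup (cFlag i j h)).map γ.toMonoidHom = rootGroup (Y i j h))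
    (hP : ∀ i j k h h', SamePt (Y i j h) (Y i k h')) (hH : ∀ i l j h h', SameHyp (Y i j h) (Y l j h')) :
    ∃ g : GL (Fin n) F, ∀ i j h, (rootGroup (cFlag (F := F) i j h)).map
      (semiAut g (RingEquiv.refl F) * γ).toMonoidHom = rootGroup (cFlag i j h) := by
  classical
  have : Nontrivial (Fin n) := Fin.nontrivial_iff_two_le.mpr hn
  choose o ho using fun i : Fin n => exists_ne i
  let p : Fin n → Fin n → F := fun i => (Y i (o i) (ho i).symm).pt
  let φ : Fin n → Fin n → F := fun j => (Y (o j) j (ho j)).hyp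
  have hp : ∀ i j h, ∃ c : F, p i = c • (Y i j h).pt := fun i j h => hP i j (o i) h (ho i).symm
  have hφ : ∀ i j h, ∃ c : F, φ j = c • (Y i j h).hyp := fun i j h => hH i (o j) j h (ho j)
  have h0 : ∀ i j, i ≠ j → φ j ⬝ᵥ p i = 0 := by
    intro i j h
    obtain ⟨c, hc⟩ := hp i j h
    obtain ⟨d, hd⟩ := hφ i j h
    rw [hc, hd, smul_dotProduct, dotProduct_smul, (Y i j h).orth, smul_zero, smul_zero]
  have h1 : ∀ i, φ i ⬝ᵥ p i ≠ 0 := by
    intro i hi
    let Z : Flag F n := ⟨p i, φ i, (Y i (o i) (ho i).symm).pt_ne, (Y (o i) i (ho i)).hyp_ne, hi⟩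
    obtain ⟨Z', hZ'⟩ := exists_map_rootGroup hn γ⁻¹ Z
    have hback : (rootGroup Z').map γ.toMonoidHom = rootGroup Z := by
      rw [← hZ', Subgroup.map_map]
      have hid : γ.toMonoidHom.comp (γ⁻¹ : MulAut _).toMonoidHom =
          MonoidHom.id (Matrix.ProjectiveSpecialLinearGroup (Fin n) F) :=
        MonoidHom.ext fun x => by simp
      rw [hid, Subgroup.map_id]
    have hrow : ∀ j (h : i ≠ j), SamePt Z' (cFlag i j h) ∨ SameHyp Z' (cFlag i j h) := by
      intro j h
      rw [← rel_iff, ← rel_map_iff hn γ, hback, hY i j h, rel_iff]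
      left
      obtain ⟨c, hc⟩ := hp i j h
      exact SamePt.symm ⟨c, hc⟩
    have hcol : ∀ j (h : j ≠ i), SamePt Z' (cFlag j i h) ∨ SameHyp Z' (cFlag j i h) := by
      intro j h
      rw [← rel_iff, ← rel_map_iff hn γ, hback, hY j i h, rel_iff]
      right
      obtain ⟨c, hc⟩ := hφ j i h
      exact SameHyp.symm ⟨c, hc⟩
    have hpt : SamePt Z' (cFlag i (o i) (ho i).symm) := by
      by_contra hno
      have hall : ∀ j (h : i ≠ j), SameHyp Z' (cFlag i j h) := fun j h =>
        (hrow j h).resolve_left fun hh => hno (hh.trans ((samePt_cFlag h _).mpr rfl))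
      obtain ⟨c, hc⟩ := hall (o i) (ho i).symm
      -- only one index besides `i`
      have huniq : ∀ j, j ≠ i → j = o i := fun j hj =>
        ((sameHyp_cFlag (F := F) (ho i).symm hj.symm).mp ((hall (o i) (ho i).symm).symm.trans (hall j hj.symm))).symm
      have hco : Z'.pt (o i) = 0 := by
        have h := Z'.orth
        have hc' : (Pi.single (o i) (1 : F) : Fin n → F) = c • Z'.hyp := hc
        have := congrArg (· ⬝ᵥ Z'.pt) hc'
        simpa [smul_dotProduct, h] using this
      have hi0 : Z'.pt i ≠ 0 := fun h0 => Z'.pt_ne (funext fun j => by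
        rcases eq_or_ne j i with rfl | hj
        · exact h0
        · rw [huniq j hj]; exact hco)
      refine hno ⟨(Z'.pt i)⁻¹, funext fun j => ?_⟩
      rcases eq_or_ne j i with rfl | hj
      · simp [cFlag, inv_mul_cancel₀ hi0]
      · simp [cFlag, hj, huniq j hj, hco, ho i]
    have hhyp : SameHyp Z' (cFlag (o i) i (ho i)) := by
      by_contra hno
      have hall : ∀ j (h : j ≠ i), SamePt Z' (cFlag j i h) := fun j h =>
        (hcol j h).resolve_right fun hh => hno (hh.trans ((sameHyp_cFlag h _).mpr rfl))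
      exact ho i ((samePt_cFlag (F := F) (ho i).symm (ho i)).mp (hpt.symm.trans (hall (o i) (ho i)))).symm
    obtain ⟨a, ha⟩ := hpt.symm
    obtain ⟨b, hb⟩ := hhyp.symm
    have ha0 : a ≠ 0 := fun h => Z'.pt_ne (by rw [ha, h, zero_smul])
    have hb0 : b ≠ 0 := fun h => Z'.hyp_ne (by rw [hb, h, zero_smul])
    have := Z'.orth
    rw [ha, hb] at this
    simp [cFlag, ha0, hb0] at this
  have hdet := det_ne_zero_of_dual p φ h0 h1
  let G : GL (Fin n) F := Matrix.GeneralLinearGroup.mkOfDetNeZero _ hdet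
  refine ⟨G⁻¹, fun i j h => ?_⟩
  have hflag : rootGroup ((cFlag i j h).semi G (RingEquiv.refl F)) = rootGroup (Y i j h) := by
    refine rootGroup_eq_iff.mpr ⟨?_, ?_⟩
    · obtain ⟨c, hc⟩ := hp i j h
      have : ((cFlag i j h).semi G (RingEquiv.refl F)).pt = p i := by
        show (Matrix.of fun a i => p i a) *ᵥ (Pi.single i 1) = p i
        rw [Matrix.mulVec_single_one]
        rfl
      exact SamePt.symm ⟨c, this.trans hc⟩
    · obtain ⟨c, hc⟩ := hφ i j h
      refine SameHyp.symm ⟨(φ j ⬝ᵥ p j)⁻¹ * c, ?_⟩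
      show (Pi.single j 1 : Fin n → F) ᵥ* ((G⁻¹ : GL (Fin n) F) : Matrix (Fin n) (Fin n) F) = _
      have hφG : φ j ᵥ* (G : Matrix (Fin n) (Fin n) F) = (φ j ⬝ᵥ p j) • Pi.single j 1 := by
        ext k
        show φ j ⬝ᵥ p k = _
        rcases eq_or_ne k j with rfl | hk
        · simp
        · simp [hk, h0 k j hk]
      have h2 := congrArg (· ᵥ* ((G⁻¹ : GL (Fin n) F) : Matrix (Fin n) (Fin n) F)) hφG
      simp only [Matrix.vecMul_vecMul, ← Units.val_mul, mul_inv_cancel, Units.val_one, Matrix.vecMul_one,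
        Matrix.smul_vecMul] at h2
      rw [← smul_smul, ← hc]
      generalize hk : φ j ⬝ᵥ p j = k at h2 ⊢
      rw [h2, smul_smul, inv_mul_cancel₀ (hk ▸ h1 j), one_smul]
  have hcomp : (semiAut G⁻¹ (RingEquiv.refl F) * γ).toMonoidHom =
      (semiAut G⁻¹ (RingEquiv.refl F)).toMonoidHom.comp γ.toMonoidHom := rfl
  rw [hcomp, ← Subgroup.map_map, hY i j h, ← hflag, ← map_semiAut_rootGroup, Subgroup.map_map]
  have hone : (semiAut G⁻¹ (RingEquiv.refl F)).toMonoidHom.comp (semiAut G (RingEquiv.refl F)).toMonoidHom =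
      MonoidHom.id (Matrix.ProjectiveSpecialLinearGroup (Fin n) F) := by
    have h1 : semiAut G⁻¹ (RingEquiv.refl F) * semiAut G (RingEquiv.refl F) = 1 := by
      rw [semiAut_mul]
      have : glMap (RingEquiv.refl F) G = G := Units.ext (by ext a b; rfl)
      rw [this, inv_mul_cancel]
      exact semiAut_one
    exact MonoidHom.ext fun x => DFunLike.congr_fun h1 x
  rw [hone, Subgroup.map_id]

theorem transvection_commutator {i j k : Fin n} (hij : i ≠ j) (hik : i ≠ k) (hkj : k ≠ j) (a b : F) :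
    Matrix.SpecialLinearGroup.transvection hik a * Matrix.SpecialLinearGroup.transvection hkj b *
        (Matrix.SpecialLinearGroup.transvection hik a)⁻¹ * (Matrix.SpecialLinearGroup.transvection hkj b)⁻¹ =
      Matrix.SpecialLinearGroup.transvection hij (a * b) := by
  rw [Matrix.SpecialLinearGroup.transvection_inv hik, Matrix.SpecialLinearGroup.transvection_inv hkj]
  apply Subtype.ext
  simp only [Matrix.SpecialLinearGroup.coe_mul, CfsgLib.Linear.transvec_coe, Matrix.transvection,
    add_mul, mul_add, one_mul, mul_one, Matrix.single_mul_single_same,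
    Matrix.single_mul_single_of_ne _ _ _ _ hkj.symm, Matrix.single_mul_single_of_ne _ _ _ _ hij.symm,
    Matrix.single_mul_single_of_ne _ _ _ _ hik.symm,
    Matrix.single_mul_single_of_ne _ _ _ _ hkj,
    add_zero, zero_add, zero_mul, mul_zero]
  ext x y
  simp only [Matrix.add_apply, Matrix.one_apply, Matrix.single_apply]
  split_ifs <;> grind

theorem exists_ringEquiv_two {γ : MulAut (Matrix.ProjectiveSpecialLinearGroup (Fin 2) F)}
    (f : (i j : Fin 2) → i ≠ j → F → F)
    (hf : ∀ i j h a, γ (QuotientGroup.mk (Matrix.SpecialLinearGroup.transvection h a)) =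
      QuotientGroup.mk (Matrix.SpecialLinearGroup.transvection h (f i j h a)))
    (hadd : ∀ i j h a b, f i j h (a + b) = f i j h a + f i j h b)
    (hbij : ∀ i j h, Function.Bijective (f i j h))
    (h1 : ∀ j h, f 0 j h 1 = 1) :
    ∃ σ : F ≃+* F, ∀ i j h a, f i j h a = σ a := by
  classical
  obtain ⟨p, hp⟩ := CharP.exists F
  have := Fact.mk (CharP.char_is_prime F p)
  let u : F → Matrix.SpecialLinearGroup (Fin 2) F := fun a => tv (cFlag (0 : Fin 2) 1 (by decide)) a
  let l : F → Matrix.SpecialLinearGroup (Fin 2) F := fun a => tv (cFlag (1 : Fin 2) 0 (by decide)) a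
  set f0 := f 0 1 (by decide) with hf0
  set f1 := f 1 0 (by decide) with hf1
  have hu : ∀ a, γ (QuotientGroup.mk (u a)) = QuotientGroup.mk (u (f0 a)) := fun a => by
    simp only [u, tv_cFlag]; exact hf _ _ _ _
  have hl : ∀ a, γ (QuotientGroup.mk (l a)) = QuotientGroup.mk (l (f1 a)) := fun a => by
    simp only [l, tv_cFlag]; exact hf _ _ _ _
  have cu : ∀ a, (u a : Matrix (Fin 2) (Fin 2) F) = !![1, a; 0, 1] := fun a => by
    ext i j; fin_cases i <;> fin_cases j <;> simp [u, coe_tv, cFlag, Matrix.vecMulVec_apply]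
  have cl : ∀ a, (l a : Matrix (Fin 2) (Fin 2) F) = !![1, 0; a, 1] := fun a => by
    ext i j; fin_cases i <;> fin_cases j <;> simp [l, coe_tv, cFlag, Matrix.vecMulVec_apply]
  have hf00 : f0 0 = 0 := by
    have := hadd 0 1 (by decide) 0 0
    rw [← hf0, add_zero] at this
    exact left_eq_add.mp this
  have hadd0 : ∀ a b, f0 (a + b) = f0 a + f0 b := hadd 0 1 _
  have hne : ∀ a, a ≠ 0 → f0 a ≠ 0 := fun a ha h => ha ((hbij 0 1 _).1 (h.trans hf00.symm))
  have hneg : ∀ a, f0 (-a) = - f0 a := fun a => by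
    have := hadd 0 1 (by decide) (-a) a
    rw [← hf0, neg_add_cancel, hf00] at this
    exact eq_neg_of_add_eq_zero_left this.symm
  let w : F → F → Matrix.SpecialLinearGroup (Fin 2) F := fun x y => u x * l y * u x
  have cw : ∀ x y, (w x y : Matrix (Fin 2) (Fin 2) F) = !![1 + x * y, x * (2 + x * y); y, 1 + x * y] := fun x y => by
    simp only [w, Matrix.SpecialLinearGroup.coe_mul, cu, cl, Matrix.mul_fin_two]
    ext i j; fin_cases i <;> fin_cases j <;> simp <;> ring
  have hw : ∀ x y, γ (QuotientGroup.mk (w x y)) = QuotientGroup.mk (w (f0 x) (f1 y)) := fun x y => by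
    simp only [w, QuotientGroup.mk_mul, map_mul, hu, hl]
  -- the image of `w a (-a⁻¹)` is anti-diagonal
  have hg : ∀ a, a ≠ 0 → 1 + f0 a * f1 (-a⁻¹) = 0 := by
    intro a ha
    have hconj : w a (-a⁻¹) * u 1 = l (-(a⁻¹ * a⁻¹)) * w a (-a⁻¹) := by
      apply Subtype.ext
      simp only [Matrix.SpecialLinearGroup.coe_mul, cw, cu, cl, Matrix.mul_fin_two]
      ext i j; fin_cases i <;> fin_cases j <;> simp [ha] <;> field_simp <;> ring
    have h2 := congrArg (fun x => γ (QuotientGroup.mk x)) hconj
    simp only [QuotientGroup.mk_mul, map_mul, hw, hu, hl] at h2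
    rw [← mul_inv_eq_iff_eq_mul, ← QuotientGroup.mk_inv, ← QuotientGroup.mk_mul, ← QuotientGroup.mk_mul] at h2
    have h3 := eq_of_mk_eq p (by rw [← MulAut.conj_apply, ← map_pow, tv_pow_prime p, map_one]) (tv_pow_prime p _ _) h2
    rw [mul_inv_eq_iff_eq_mul] at h3
    replace h3 : w (f0 a) (f1 (-a⁻¹)) * u (f0 1) = l (f1 (-(a⁻¹ * a⁻¹))) * w (f0 a) (f1 (-a⁻¹)) := h3
    have h4 := congrArg (fun M : Matrix.SpecialLinearGroup (Fin 2) F => (M : Matrix (Fin 2) (Fin 2) F) 0 1) h3
    simp only [Matrix.SpecialLinearGroup.coe_mul, cw, cu, cl, Matrix.mul_fin_two] at h4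
    have hf01 : f0 1 = 1 := h1 1 _
    simp [hf01] at h4
    linear_combination h4
  have hg' : ∀ b, b ≠ 0 → f1 b = (f0 b⁻¹)⁻¹ := by
    intro b hb
    have h := hg (-b⁻¹) (neg_ne_zero.mpr (inv_ne_zero hb))
    rw [hneg, show -(-b⁻¹)⁻¹ = b by rw [inv_neg, neg_neg, inv_inv]] at h
    exact eq_inv_of_mul_eq_one_left (by linear_combination -h)
  -- the diagonal element
  have hsq : ∀ a b, f0 (a ^ 2 * b) = f0 a ^ 2 * f0 b := by
    intro a b
    rcases eq_or_ne a 0 with rfl | ha
    · simp [hf00]
    let h : Matrix.SpecialLinearGroup (Fin 2) F := w a (-a⁻¹) * w (-1) 1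
    have ch : (h : Matrix (Fin 2) (Fin 2) F) = !![a, 0; 0, a⁻¹] := by
      simp only [h, Matrix.SpecialLinearGroup.coe_mul, cw, Matrix.mul_fin_two]
      ext i j; fin_cases i <;> fin_cases j <;> simp [ha] <;> field_simp <;> ring
    have hh : γ (QuotientGroup.mk h) = QuotientGroup.mk (w (f0 a) (-(f0 a)⁻¹) * w (-1) 1) := by
      simp only [h, QuotientGroup.mk_mul, map_mul, hw]
      congr 2
      · congr 1
        have := hg a ha
        apply mul_left_cancel₀ (hne a ha)
        rw [mul_neg, mul_inv_cancel₀ (hne a ha)]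
        linear_combination this
      · congr 1
        · rw [hneg]; congr 1; exact h1 1 _
        · rw [hg' 1 one_ne_zero, inv_one, show f0 1 = 1 from h1 1 _, inv_one]
    have ch' : ((w (f0 a) (-(f0 a)⁻¹) * w (-1) 1 : Matrix.SpecialLinearGroup (Fin 2) F) :
        Matrix (Fin 2) (Fin 2) F) = !![f0 a, 0; 0, (f0 a)⁻¹] := by
      have hfa := hne a ha
      simp only [Matrix.SpecialLinearGroup.coe_mul, cw, Matrix.mul_fin_two]
      ext i j; fin_cases i <;> fin_cases j <;> simp [hfa] <;> field_simp <;> ring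
    have hrel : ∀ (x y : F) (H : Matrix.SpecialLinearGroup (Fin 2) F),
        (H : Matrix (Fin 2) (Fin 2) F) = !![x, 0; 0, x⁻¹] → x ≠ 0 → H * u y = u (x ^ 2 * y) * H := by
      intro x y H hH hx
      apply Subtype.ext
      simp only [Matrix.SpecialLinearGroup.coe_mul, hH, cu, Matrix.mul_fin_two]
      ext i j; fin_cases i <;> fin_cases j <;> simp <;> field_simp
    have h2 := congrArg (fun x => γ (QuotientGroup.mk x)) (hrel a b h ch ha)
    simp only [QuotientGroup.mk_mul, map_mul, hh, hu] at h2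
    rw [← QuotientGroup.mk_mul (Subgroup.center _) (w (f0 a) (-(f0 a)⁻¹)), ← QuotientGroup.mk_mul,
      hrel (f0 a) (f0 b) _ ch' (hne a ha), QuotientGroup.mk_mul] at h2
    have h3 := mul_right_cancel h2
    exact (mk_tv_injective _ h3).symm
  have hsqa : ∀ a, f0 (a ^ 2) = f0 a ^ 2 := fun a => by
    have := hsq a 1
    rwa [mul_one, show f0 1 = 1 from h1 1 _, mul_one] at this
  have hmul : ∀ a b, f0 (a * b) = f0 a * f0 b := by
    intro a b
    have hs : ∀ x, f0 (x ^ 2 * b) = f0 (x ^ 2) * f0 b := fun x => by rw [hsq, hsqa]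
    by_cases hp2 : p = 2
    · subst hp2
      obtain ⟨x, hx⟩ := (bijective_frobenius F 2).2 a
      rw [← hx, frobenius_def]
      exact hs x
    · have h2 : (2 : F) ≠ 0 := Ring.two_ne_zero (by rwa [ringChar.eq F p])
      have ha : a = ((a + 1) / 2) ^ 2 - ((a - 1) / 2) ^ 2 := by field_simp; ring
      rw [ha, sub_mul, sub_eq_add_neg, hadd0, hneg, hs, hs, sub_eq_add_neg (((a + 1) / 2) ^ 2), hadd0, hneg]
      ring
  let σ : F ≃+* F := RingEquiv.ofBijective
    ({ toFun := f0, map_one' := h1 1 _, map_mul' := hmul, map_zero' := hf00, map_add' := hadd 0 1 _ } : F →+* F)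
    (hbij 0 1 _)
  refine ⟨σ, ?_⟩
  intro i j h a
  fin_cases i <;> fin_cases j
  · exact absurd rfl h
  · rfl
  · show f1 a = σ a
    rcases eq_or_ne a 0 with rfl | ha
    · rw [map_zero]
      have := hadd 1 0 (by decide) 0 0
      rw [← hf1, add_zero] at this
      exact left_eq_add.mp this
    rw [hg' a ha]
    show (σ a⁻¹)⁻¹ = σ a
    rw [map_inv₀, inv_inv]
  · exact absurd rfl h

/-- An automorphism fixing all coordinate root groups, normalised, is a field automorphism. -/
theorem exists_ringEquiv (hn : 2 ≤ n) [NeZero n] {γ : MulAut (Matrix.ProjectiveSpecialLinearGroup (Fin n) F)}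
    (f : (i j : Fin n) → i ≠ j → F → F)
    (hf : ∀ i j h a, γ (QuotientGroup.mk (Matrix.SpecialLinearGroup.transvection h a)) =
      QuotientGroup.mk (Matrix.SpecialLinearGroup.transvection h (f i j h a)))
    (hadd : ∀ i j h a b, f i j h (a + b) = f i j h a + f i j h b)
    (hbij : ∀ i j h, Function.Bijective (f i j h))
    (h1 : ∀ j h, f 0 j h 1 = 1) :
    ∃ σ : F ≃+* F, ∀ i j h a, f i j h a = σ a := by
  classical
  rcases hn.eq_or_lt with h2 | h3
  · subst h2
    exact exists_ringEquiv_two f hf hadd hbij h1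
  have hcomm : ∀ i j k (hij : i ≠ j) (hik : i ≠ k) (hkj : k ≠ j) a b,
      f i j hij (a * b) = f i k hik a * f k j hkj b := by
    intro i j k hij hik hkj a b
    have h := congrArg (fun x => γ (QuotientGroup.mk x)) (transvection_commutator hij hik hkj a b)
    simp only [QuotientGroup.mk_mul, QuotientGroup.mk_inv, map_mul, map_inv, hf] at h
    rw [← QuotientGroup.mk_inv, ← QuotientGroup.mk_inv, ← QuotientGroup.mk_mul, ← QuotientGroup.mk_mul,
      ← QuotientGroup.mk_mul, transvection_commutator hij hik hkj, ← tv_cFlag, ← tv_cFlag] at h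
    exact (mk_tv_injective _ h).symm
  obtain ⟨j₁, hj₁⟩ : ∃ j : Fin n, j ≠ 0 := ⟨⟨1, by omega⟩, by simp [Fin.ext_iff]⟩
  set σ₀ := f 0 j₁ hj₁.symm with hσ₀
  have h0j : ∀ j (h : (0 : Fin n) ≠ j) a, f 0 j h a = σ₀ a := by
    intro j h a
    by_cases hj : j = j₁
    · subst hj; rfl
    have e1 := hcomm 0 j j₁ h hj₁.symm (Ne.symm hj) 1 1
    rw [one_mul, h1, h1, one_mul] at e1
    have e2 := hcomm 0 j j₁ h hj₁.symm (Ne.symm hj) a 1
    rw [mul_one, ← e1, mul_one] at e2
    exact e2
  have hkj : ∀ k j (hk : k ≠ 0) (hj : (0 : Fin n) ≠ j) (h : k ≠ j) a, f k j h a = σ₀ a := by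
    intro k j hk hj h a
    have e := hcomm 0 j k hj hk.symm h 1 a
    rw [one_mul, h1, one_mul, h0j] at e
    exact e.symm
  have hmul : ∀ a b, σ₀ (a * b) = σ₀ a * σ₀ b := by
    intro a b
    obtain ⟨k, hk⟩ : ∃ k : Fin n, k ∉ ({0, j₁} : Finset (Fin n)) := by
      apply exists_notMem_of_ne_univ
      intro hu
      have := (congrArg Finset.card hu).symm.le.trans Finset.card_le_two
      simp only [Finset.card_univ, Fintype.card_fin] at this
      omega
    simp only [Finset.mem_insert, Finset.mem_singleton, not_or] at hk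
    have e := hcomm 0 j₁ k hj₁.symm (Ne.symm hk.1) hk.2 a b
    rw [h0j, h0j, hkj k j₁ hk.1 hj₁.symm] at e
    exact e
  have hk0 : ∀ k (h : k ≠ 0) a, f k 0 h a = σ₀ a := by
    intro k h a
    obtain ⟨j, hj⟩ : ∃ j : Fin n, j ∉ ({0, k} : Finset (Fin n)) := by
      apply exists_notMem_of_ne_univ
      intro hu
      have := (congrArg Finset.card hu).symm.le.trans Finset.card_le_two
      simp only [Finset.card_univ, Fintype.card_fin] at this
      omega
    simp only [Finset.mem_insert, Finset.mem_singleton, not_or] at hj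
    have e := hcomm k j 0 (Ne.symm hj.2) h (Ne.symm hj.1) a 1
    rw [mul_one, hkj k j h (Ne.symm hj.1), h1, mul_one] at e
    exact e.symm
  have hzero : σ₀ 0 = 0 := by
    have := hadd 0 j₁ hj₁.symm 0 0
    rw [← hσ₀, add_zero] at this
    exact left_eq_add.mp this
  let σ : F ≃+* F := RingEquiv.ofBijective
    ({ toFun := σ₀, map_one' := h1 _ _, map_mul' := hmul, map_zero' := hzero, map_add' := hadd 0 j₁ _ } : F →+* F)
    (hbij 0 j₁ _)
  refine ⟨σ, fun i j h a => ?_⟩
  show f i j h a = σ₀ a
  by_cases hi : i = 0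
  · subst hi; exact h0j j h a
  by_cases hj : j = 0
  · subst hj; exact hk0 i h a
  exact hkj i j hi (Ne.symm hj) h a

/-- Every automorphism of `PSL_n(q)`, `n ≥ 2`, is semilinear, or semilinear times inverse-transpose. -/
theorem exists_semi_or_semi_invTrans (hn : 2 ≤ n)
    (β : MulAut (Matrix.ProjectiveSpecialLinearGroup (Fin n) F)) :
    ∃ (g : GL (Fin n) F) (σ : F ≃+* F), β = semiAut g σ ∨ β = semiAut g σ * invTrans := by
  classical
  have : NeZero n := ⟨by omega⟩
  have hrefl : ∀ g : GL (Fin n) F, glMap (RingEquiv.refl F) g = g := fun g => Units.ext (by ext a b; rfl)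
  obtain ⟨γ, hγ, Y, hY, hP, hH⟩ := exists_orientation hn β
  obtain ⟨g, hg⟩ := exists_fix_coordinate hn γ Y hY hP hH
  -- parameters
  have hparam : ∀ i j (h : i ≠ j) (a : F), ∃ b : F, (semiAut g (RingEquiv.refl F) * γ)
      (QuotientGroup.mk (tv (cFlag i j h) a)) = QuotientGroup.mk (tv (cFlag i j h) b) := by
    intro i j h a
    have hm : (semiAut g (RingEquiv.refl F) * γ) (QuotientGroup.mk (tv (cFlag i j h) a)) ∈ rootGroup (cFlag i j h) := by
      have hm' := Subgroup.mem_map_of_mem (semiAut g (RingEquiv.refl F) * γ).toMonoidHom (mk_tv_mem (cFlag i j h) a)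
      rw [hg] at hm'
      exact hm'
    obtain ⟨b, hb⟩ := mem_rootGroup.mp hm
    exact ⟨b, hb.symm⟩
  choose f₀ hf₀ using hparam
  have hinj : ∀ i j (h : i ≠ j), Function.Injective (f₀ i j h) := fun i j h a b hab =>
    mk_tv_injective _ ((semiAut g (RingEquiv.refl F) * γ).injective (by rw [hf₀, hf₀, hab]))
  have hzero : ∀ i j (h : i ≠ j), f₀ i j h 0 = 0 := fun i j h =>
    mk_tv_injective (cFlag i j h) (by
      rw [← hf₀, tv_zero]
      show (semiAut g (RingEquiv.refl F) * γ) 1 = 1
      exact map_one _)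
  -- diagonal normalisation
  let d : Fin n → F := fun j => if h : (0 : Fin n) ≠ j then f₀ 0 j h 1 else 1
  have hd : ∀ j, d j ≠ 0 := by
    intro j
    simp only [d]
    split_ifs with h
    · exact fun e => one_ne_zero (hinj 0 j h (e.trans (hzero 0 j h).symm))
    · exact one_ne_zero
  let D : GL (Fin n) F := Matrix.GeneralLinearGroup.mkOfDetNeZero (Matrix.diagonal d)
    (by rw [Matrix.det_diagonal]; exact Finset.prod_ne_zero_iff.mpr fun j _ => hd j)
  set δ := semiAut D (RingEquiv.refl F) * (semiAut g (RingEquiv.refl F) * γ) with hδ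
  have hD : ∀ i j (h : i ≠ j) (b : F), semiFun D (RingEquiv.refl F) (Matrix.SpecialLinearGroup.transvection h b) =
      Matrix.SpecialLinearGroup.transvection h (d i * b / d j) := by
    intro i j h b
    have key : (D : Matrix (Fin n) (Fin n) F) * Matrix.transvection i j b =
        Matrix.transvection i j (d i * b / d j) * (D : Matrix (Fin n) (Fin n) F) := by
      show Matrix.diagonal d * _ = _ * Matrix.diagonal d
      ext x y
      simp only [Matrix.diagonal_mul, Matrix.mul_diagonal, Matrix.transvection, Matrix.add_apply,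
        Matrix.one_apply, Matrix.single_apply]
      by_cases hxy : x = y
      · subst hxy
        by_cases hc : i = x ∧ j = x
        · exact absurd (hc.1.trans hc.2.symm) h
        · simp [hc, mul_comm]
      · by_cases hc : i = x ∧ j = y
        · obtain ⟨rfl, rfl⟩ := hc
          simp [hxy, div_mul_cancel₀ _ (hd j)]
        · simp [hxy, hc]
    apply Subtype.ext
    rw [coe_semiFun, CfsgLib.Linear.transvec_coe, CfsgLib.Linear.transvec_coe]
    have hm : (Matrix.transvection i j b).map (RingEquiv.refl F) = Matrix.transvection i j b := by ext x y; rfl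
    rw [hm, key, mul_assoc, ← Units.val_mul, mul_inv_cancel, Units.val_one, mul_one]
  let f : (i j : Fin n) → i ≠ j → F → F := fun i j h a => d i * f₀ i j h a / d j
  have hf : ∀ i j h a, δ (QuotientGroup.mk (Matrix.SpecialLinearGroup.transvection h a)) =
      QuotientGroup.mk (Matrix.SpecialLinearGroup.transvection h (f i j h a)) := by
    intro i j h a
    rw [hδ, MulAut.mul_apply, ← tv_cFlag, hf₀ i j h a, semiAut_mk, tv_cFlag, hD]
  have hadd : ∀ i j h a b, f i j h (a + b) = f i j h a + f i j h b := by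
    intro i j h a b
    apply mk_tv_injective (cFlag i j h)
    rw [tv_cFlag, tv_cFlag, ← hf, Matrix.SpecialLinearGroup.transvection_add, QuotientGroup.mk_mul, map_mul,
      hf, hf, Matrix.SpecialLinearGroup.transvection_add, QuotientGroup.mk_mul]
  have hbij : ∀ i j h, Function.Bijective (f i j h) := by
    intro i j h
    refine Finite.injective_iff_bijective.mp fun a b hab => mk_tv_injective (cFlag i j h) (δ.injective ?_)
    rw [tv_cFlag, tv_cFlag, hf, hf, hab]
  have h1 : ∀ j h, f 0 j h 1 = 1 := by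
    intro j h
    have hd0 : d 0 = 1 := by simp [d]
    simp only [f, hd0, one_mul]
    simp only [d, dif_pos h]
    exact div_self (by have := hd j; simp only [d] at this; rw [dif_pos h] at this; exact this)
  obtain ⟨σ, hσ⟩ := exists_ringEquiv hn f hf hadd hbij h1
  have hδσ : δ = semiAut 1 σ := slext_generators hn _ _ fun i j h c => by
    rw [hf, hσ, semiAut_mk]
    refine congrArg _ (Subtype.ext ?_)
    rw [coe_semiFun, CfsgLib.Linear.transvec_coe, CfsgLib.Linear.transvec_coe]
    ext x y
    simp [Matrix.transvection, Matrix.one_apply, Matrix.single_apply, apply_ite σ]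
  have hγ' : γ = semiAut ((D * g)⁻¹) σ := by
    have e1 : semiAut (D * g) (RingEquiv.refl F) * γ = semiAut 1 σ := by
      rw [← hδσ, hδ, ← mul_assoc, semiAut_mul, hrefl]
      rfl
    have e2 : semiAut (D * g)⁻¹ (RingEquiv.refl F) * semiAut (D * g) (RingEquiv.refl F) = 1 := by
      rw [semiAut_mul, hrefl, inv_mul_cancel]
      exact semiAut_one
    calc γ = semiAut (D * g)⁻¹ (RingEquiv.refl F) * (semiAut (D * g) (RingEquiv.refl F) * γ) := by
          rw [← mul_assoc, e2, one_mul]
      _ = semiAut (D * g)⁻¹ (RingEquiv.refl F) * semiAut 1 σ := by rw [e1]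
      _ = _ := by rw [semiAut_mul, hrefl, mul_one]; rfl
  rcases hγ with h | h
  · exact ⟨(D * g)⁻¹, σ, Or.inl (h ▸ hγ')⟩
  · refine ⟨dualGL ((D * g)⁻¹), σ, Or.inr ?_⟩
    calc β = invTrans * (invTrans * β) := by rw [← mul_assoc, invTrans_mul_self, one_mul]
      _ = _ := by rw [← h, hγ', invTrans_mul_semiAut]

end CfsgLib.AutPSL
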