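import Mathlib.LinearAlgebra.Matrix.SchurComplement
import Mathlib.LinearAlgebra.Matrix.CharP
import Mathlib.LinearAlgebra.Matrix.Adjugate
import Mathlib.Algebra.CharP.Lemmas
import Mathlib.GroupTheory.NoncommCoprod
import Cfsg.Agent.Classical.Transvections

/-!
Root subgroups (transvection subgroups) of `PSL_n(F)`: when two of them share a point or a
hyperplane, expressed inside the group.
-/

set_option autoImplicit false

open Matrix

namespace CfsgLib.AutPSL

variable {F : Type*} [Field F] {n : ℕ}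

theorem det_tv (v w : Fin n → F) : (1 + Matrix.vecMulVec v w).det = 1 + w ⬝ᵥ v := by
  rw [Matrix.vecMulVec_eq Unit, Matrix.det_one_add_replicateCol_mul_replicateRow]

theorem vmv_mul_vmv (v w v' w' : Fin n → F) :
    Matrix.vecMulVec v w * Matrix.vecMulVec v' w' = (w ⬝ᵥ v') • Matrix.vecMulVec v w' := by
  ext i j
  simp [Matrix.mul_apply, Matrix.vecMulVec_apply, dotProduct, Finset.sum_mul]
  exact Finset.sum_congr rfl fun k _ => by ring

/-- A flag: a point and a hyperplane through it. -/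
structure Flag (F : Type*) [Field F] (n : ℕ) where
  pt : Fin n → F
  hyp : Fin n → F
  pt_ne : pt ≠ 0
  hyp_ne : hyp ≠ 0
  orth : hyp ⬝ᵥ pt = 0

/-- The transvection `1 + c • v φᵀ` of a flag. -/
def tv (X : Flag F n) (c : F) : Matrix.SpecialLinearGroup (Fin n) F :=
  ⟨1 + Matrix.vecMulVec (c • X.pt) X.hyp, by
    rw [det_tv, dotProduct_smul, X.orth, smul_zero, add_zero]⟩

theorem coe_tv (X : Flag F n) (c : F) :
    (tv X c : Matrix (Fin n) (Fin n) F) = 1 + c • Matrix.vecMulVec X.pt X.hyp := by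
  change 1 + Matrix.vecMulVec (c • X.pt) X.hyp = _
  rw [Matrix.smul_vecMulVec]

theorem tv_add (X : Flag F n) (a b : F) : tv X (a + b) = tv X a * tv X b := by
  apply Subtype.ext
  rw [Matrix.SpecialLinearGroup.coe_mul, coe_tv, coe_tv, coe_tv]
  simp [mul_add, add_mul, vmv_mul_vmv, X.orth, add_smul, add_assoc]

theorem tv_zero (X : Flag F n) : tv X 0 = 1 := Subtype.ext (by rw [coe_tv]; simp)

theorem tv_ne_one (X : Flag F n) {c : F} (hc : c ≠ 0) : tv X c ≠ 1 := by
  intro h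
  obtain ⟨i, hi⟩ := Function.ne_iff.mp X.pt_ne
  obtain ⟨j, hj⟩ := Function.ne_iff.mp X.hyp_ne
  have := congrArg (fun A : Matrix.SpecialLinearGroup (Fin n) F => (A : Matrix (Fin n) (Fin n) F) i j) h
  simp [coe_tv, Matrix.vecMulVec_apply] at this
  rcases this with h' | h' | h'
  · exact hc h'
  · exact hi h'
  · exact hj h'

/-- The homomorphism onto the root subgroup in `PSL`. -/
def ptv (X : Flag F n) : Multiplicative F →* Matrix.ProjectiveSpecialLinearGroup (Fin n) F where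
  toFun c := QuotientGroup.mk (tv X c.toAdd)
  map_one' := by simp [tv_zero]
  map_mul' a b := by simp [tv_add]

/-- The root subgroup of a flag. -/
def rootGroup (X : Flag F n) : Subgroup (Matrix.ProjectiveSpecialLinearGroup (Fin n) F) := (ptv X).range

theorem mem_rootGroup {X : Flag F n} {x : Matrix.ProjectiveSpecialLinearGroup (Fin n) F} :
    x ∈ rootGroup X ↔ ∃ c : F, (QuotientGroup.mk (tv X c) : Matrix.ProjectiveSpecialLinearGroup (Fin n) F) = x :=
  ⟨fun ⟨c, hc⟩ => ⟨c.toAdd, hc⟩, fun ⟨c, hc⟩ => ⟨Multiplicative.ofAdd c, hc⟩⟩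

theorem mk_tv_mem (X : Flag F n) (c : F) :
    (QuotientGroup.mk (tv X c) : Matrix.ProjectiveSpecialLinearGroup (Fin n) F) ∈ rootGroup X :=
  mem_rootGroup.mpr ⟨c, rfl⟩

section Char

variable (p : ℕ) [Fact p.Prime] [CharP F p]

theorem tv_pow_prime (X : Flag F n) (c : F) : tv X c ^ p = 1 := by
  have h : ∀ m : ℕ, tv X c ^ m = tv X ((m : F) * c) := by
    intro m
    induction m with
    | zero => simp [tv_zero]
    | succ m ih => rw [pow_succ, ih, ← tv_add]; push_cast; ring_nf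
  rw [h, CharP.cast_eq_zero, zero_mul, tv_zero]

/-- Elements of order dividing `p` of `SL` are determined by their images in `PSL`. -/
theorem eq_of_mk_eq {A B : Matrix.SpecialLinearGroup (Fin n) F} (hA : A ^ p = 1) (hB : B ^ p = 1)
    (h : (QuotientGroup.mk A : Matrix.ProjectiveSpecialLinearGroup (Fin n) F) = QuotientGroup.mk B) :
    A = B := by
  rcases Nat.eq_zero_or_pos n with rfl | hn
  · exact Subsingleton.elim _ _
  have : Nonempty (Fin n) := ⟨⟨0, hn⟩⟩
  have hz : A⁻¹ * B ∈ Subgroup.center (Matrix.SpecialLinearGroup (Fin n) F) := QuotientGroup.eq.mp h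
  have hc : Commute A (A⁻¹ * B) := Subgroup.mem_center_iff.mp hz A
  have hp' : (A⁻¹ * B) ^ p = 1 := by
    have h1 := hc.mul_pow p
    rw [mul_inv_cancel_left, hA, hB, one_mul] at h1
    exact h1.symm
  obtain ⟨r, -, hr⟩ := Matrix.SpecialLinearGroup.mem_center_iff.mp hz
  have h2 := congrArg (fun M : Matrix.SpecialLinearGroup (Fin n) F => (M : Matrix (Fin n) (Fin n) F)) hp'
  simp only [Matrix.SpecialLinearGroup.coe_pow, Matrix.SpecialLinearGroup.coe_one] at h2
  rw [← hr, ← map_pow] at h2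
  have h3 : r ^ p = 1 := Matrix.scalar_inj.mp (h2.trans (map_one _).symm)
  have h4 : r = 1 := by
    have : (r - 1) ^ p = 0 := by rw [sub_pow_char, h3, one_pow, sub_self]
    exact sub_eq_zero.mp (eq_zero_of_pow_eq_zero this)
  have : A⁻¹ * B = 1 := Subtype.ext (by rw [← hr, h4, map_one]; rfl)
  exact inv_mul_eq_one.mp this

end Char

section Finite

variable [Finite F]

theorem mk_tv_injective (X : Flag F n) {a b : F}
    (h : (QuotientGroup.mk (tv X a) : Matrix.ProjectiveSpecialLinearGroup (Fin n) F) = QuotientGroup.mk (tv X b)) :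
    a = b := by
  obtain ⟨p, hp⟩ := CharP.exists F
  have := Fact.mk (CharP.char_is_prime F p)
  have h1 := eq_of_mk_eq p (tv_pow_prime p X a) (tv_pow_prime p X b) h
  by_contra hne
  apply tv_ne_one X (sub_ne_zero.mpr hne)
  have h2 : tv X (a - b) * tv X b = tv X b := by rw [← tv_add, sub_add_cancel, h1]
  exact mul_eq_right.mp h2

theorem mk_tv_ne_one (X : Flag F n) {c : F} (hc : c ≠ 0) :
    (QuotientGroup.mk (tv X c) : Matrix.ProjectiveSpecialLinearGroup (Fin n) F) ≠ 1 := by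
  intro h
  exact hc (mk_tv_injective X (a := c) (b := 0) (by rw [h, tv_zero]; rfl))

/-- Two flags share the point or the hyperplane. -/
def SamePt (X Y : Flag F n) : Prop := ∃ c : F, Y.pt = c • X.pt

/-- Two flags share the hyperplane. -/
def SameHyp (X Y : Flag F n) : Prop := ∃ c : F, Y.hyp = c • X.hyp

theorem vmv_eq_imp {v w v' w' : Fin n → F} {a b : F} (hv' : v' ≠ 0) (hw' : w' ≠ 0) (hb : b ≠ 0)
    (h : a • Matrix.vecMulVec v w = b • Matrix.vecMulVec v' w') :
    (∃ c : F, v' = c • v) ∧ ∃ c : F, w' = c • w := by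
  obtain ⟨i, hi⟩ := Function.ne_iff.mp hv'
  obtain ⟨j, hj⟩ := Function.ne_iff.mp hw'
  simp only [Pi.zero_apply] at hi hj
  constructor
  · refine ⟨a * w j / (b * w' j), funext fun k => ?_⟩
    have := congrFun (congrFun h k) j
    simp [Matrix.vecMulVec_apply] at this
    rw [Pi.smul_apply, smul_eq_mul, div_mul_eq_mul_div, eq_div_iff (mul_ne_zero hb hj)]
    linear_combination -this
  · refine ⟨a * v i / (b * v' i), funext fun k => ?_⟩
    have := congrFun (congrFun h i) k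
    simp [Matrix.vecMulVec_apply] at this
    rw [Pi.smul_apply, smul_eq_mul, div_mul_eq_mul_div, eq_div_iff (mul_ne_zero hb hi)]
    linear_combination -this

theorem rootGroup_le_of_same {X Y : Flag F n} (h1 : SamePt X Y) (h2 : SameHyp X Y) :
    rootGroup Y ≤ rootGroup X := by
  obtain ⟨a, ha⟩ := h1
  obtain ⟨b, hb⟩ := h2
  intro x hx
  obtain ⟨c, rfl⟩ := mem_rootGroup.mp hx
  refine mem_rootGroup.mpr ⟨c * a * b, congrArg _ (Subtype.ext ?_)⟩
  rw [coe_tv, coe_tv, ha, hb, Matrix.smul_vecMulVec, Matrix.vecMulVec_smul, smul_smul, smul_smul]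

theorem SamePt.symm {X Y : Flag F n} (h : SamePt X Y) : SamePt Y X := by
  obtain ⟨c, hc⟩ := h
  have : c ≠ 0 := fun h0 => Y.pt_ne (by rw [hc, h0, zero_smul])
  exact ⟨c⁻¹, by rw [hc, smul_smul, inv_mul_cancel₀ this, one_smul]⟩

theorem SameHyp.symm {X Y : Flag F n} (h : SameHyp X Y) : SameHyp Y X := by
  obtain ⟨c, hc⟩ := h
  have : c ≠ 0 := fun h0 => Y.hyp_ne (by rw [hc, h0, zero_smul])
  exact ⟨c⁻¹, by rw [hc, smul_smul, inv_mul_cancel₀ this, one_smul]⟩

theorem SamePt.trans {X Y Z : Flag F n} (h : SamePt X Y) (h' : SamePt Y Z) : SamePt X Z := by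
  obtain ⟨c, hc⟩ := h
  obtain ⟨d, hd⟩ := h'
  exact ⟨d * c, by rw [hd, hc, smul_smul]⟩

theorem SameHyp.trans {X Y Z : Flag F n} (h : SameHyp X Y) (h' : SameHyp Y Z) : SameHyp X Z := by
  obtain ⟨c, hc⟩ := h
  obtain ⟨d, hd⟩ := h'
  exact ⟨d * c, by rw [hd, hc, smul_smul]⟩

/-- A common nontrivial element forces equal root groups. -/
theorem same_of_mem {X Y : Flag F n} {x : Matrix.ProjectiveSpecialLinearGroup (Fin n) F}
    (hX : x ∈ rootGroup X) (hY : x ∈ rootGroup Y) (hx : x ≠ 1) : SamePt X Y ∧ SameHyp X Y := by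
  obtain ⟨p, hp⟩ := CharP.exists F
  have := Fact.mk (CharP.char_is_prime F p)
  obtain ⟨a, rfl⟩ := mem_rootGroup.mp hX
  obtain ⟨b, hb⟩ := mem_rootGroup.mp hY
  have h1 := eq_of_mk_eq p (tv_pow_prime p X a) (tv_pow_prime p Y b) hb.symm
  have hb0 : b ≠ 0 := by
    rintro rfl
    exact hx (by rw [h1, tv_zero]; rfl)
  have h2 := congrArg (fun M : Matrix.SpecialLinearGroup (Fin n) F => (M : Matrix (Fin n) (Fin n) F)) h1
  simp only [coe_tv] at h2
  exact vmv_eq_imp Y.pt_ne Y.hyp_ne hb0 (add_left_cancel h2)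

theorem rootGroup_eq_iff {X Y : Flag F n} : rootGroup X = rootGroup Y ↔ SamePt X Y ∧ SameHyp X Y := by
  constructor
  · intro h
    refine same_of_mem (x := QuotientGroup.mk (tv X 1)) (mk_tv_mem X 1) (h ▸ mk_tv_mem X 1)
      (mk_tv_ne_one X one_ne_zero)
  · rintro ⟨h1, h2⟩
    exact le_antisymm (rootGroup_le_of_same h1.symm h2.symm) (rootGroup_le_of_same h1 h2)

/-- The group-theoretic relation between root subgroups. -/
def Rel (R S : Subgroup (Matrix.ProjectiveSpecialLinearGroup (Fin n) F)) : Prop :=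
  R = S ∨ ((∀ x ∈ R, ∀ y ∈ S, x * y = y * x) ∧
    ∃ T : Flag F n, rootGroup T ≠ R ∧ rootGroup T ≠ S ∧ rootGroup T ≤ R ⊔ S)

theorem rel_of_samePt {X Y : Flag F n} (h : SamePt X Y) : Rel (rootGroup X) (rootGroup Y) := by
  by_cases he : rootGroup X = rootGroup Y
  · exact Or.inl he
  obtain ⟨c, hc⟩ := h
  have hc0 : c ≠ 0 := fun h0 => Y.pt_ne (by rw [hc, h0, zero_smul])
  have hYX : Y.hyp ⬝ᵥ X.pt = 0 := by
    have := Y.orth
    rwa [hc, dotProduct_smul, smul_eq_mul, mul_eq_zero, or_iff_right hc0] at this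
  have hXY : X.hyp ⬝ᵥ Y.pt = 0 := by rw [hc, dotProduct_smul, X.orth, smul_zero]
  have hnh : ¬ SameHyp X Y := fun hh => he (rootGroup_eq_iff.mpr ⟨⟨c, hc⟩, hh⟩)
  let T : Flag F n :=
    { pt := X.pt
      hyp := X.hyp + Y.hyp
      pt_ne := X.pt_ne
      hyp_ne := fun h => hnh ⟨-1, by rw [neg_one_smul]; exact (neg_eq_of_add_eq_zero_right h).symm⟩
      orth := by rw [add_dotProduct, X.orth, hYX, add_zero] }
  refine Or.inr ⟨?_, T, ?_, ?_, ?_⟩
  · intro x hx y hy
    obtain ⟨a, rfl⟩ := mem_rootGroup.mp hx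
    obtain ⟨b, rfl⟩ := mem_rootGroup.mp hy
    rw [← QuotientGroup.mk_mul, ← QuotientGroup.mk_mul]
    congr 1
    apply Subtype.ext
    simp only [Matrix.SpecialLinearGroup.coe_mul, coe_tv]
    simp [mul_add, add_mul, vmv_mul_vmv, hXY, hYX]
    abel
  · intro h
    obtain ⟨-, b, hb⟩ := rootGroup_eq_iff.mp h
    -- `X.hyp = b • (X.hyp + Y.hyp)`
    have hb' : X.hyp = b • (X.hyp + Y.hyp) := hb
    have hb0 : b ≠ 0 := fun h0 => X.hyp_ne (by rw [hb', h0, zero_smul])
    refine hnh ⟨b⁻¹ - 1, ?_⟩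
    have h2 : b⁻¹ • X.hyp = X.hyp + Y.hyp := by
      conv_lhs => rw [hb', smul_smul, inv_mul_cancel₀ hb0, one_smul]
    rw [sub_smul, one_smul, h2, add_sub_cancel_left]
  · intro h
    obtain ⟨-, b, hb⟩ := rootGroup_eq_iff.mp h
    have hb' : Y.hyp = b • (X.hyp + Y.hyp) := hb
    have h2 : b • X.hyp = (1 - b) • Y.hyp := by
      rw [sub_smul, one_smul]; conv_rhs => arg 1; rw [hb']
      rw [smul_add, add_sub_cancel_right]
    by_cases hb1 : 1 - b = 0
    · rw [hb1, zero_smul] at h2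
      have : b = 1 := (sub_eq_zero.mp hb1).symm
      rw [this, one_smul] at h2
      exact X.hyp_ne h2
    · refine hnh ⟨(1 - b)⁻¹ * b, ?_⟩
      rw [← smul_smul, h2, smul_smul, inv_mul_cancel₀ hb1, one_smul]
  · intro x hx
    obtain ⟨a, rfl⟩ := mem_rootGroup.mp hx
    have : tv T a = tv X a * tv Y (a / c) := by
      apply Subtype.ext
      simp only [Matrix.SpecialLinearGroup.coe_mul, coe_tv, T]
      simp [mul_add, add_mul, vmv_mul_vmv, hXY, X.orth, Matrix.vecMulVec_add, hc, Matrix.smul_vecMulVec,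
        smul_smul, div_mul_cancel₀ _ hc0, add_assoc]
    rw [this, QuotientGroup.mk_mul]
    exact mul_mem (Subgroup.mem_sup_left (mk_tv_mem X a)) (Subgroup.mem_sup_right (mk_tv_mem Y _))

theorem samePt_or_sameHyp_of_rel {X Y : Flag F n} (h : Rel (rootGroup X) (rootGroup Y)) :
    SamePt X Y ∨ SameHyp X Y := by
  obtain ⟨p, hp⟩ := CharP.exists F
  have := Fact.mk (CharP.char_is_prime F p)
  rcases h with h | ⟨hcomm, T, hTX, hTY, hT⟩
  · exact Or.inl (rootGroup_eq_iff.mp h).1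
  by_contra hne
  push Not at hne
  obtain ⟨hnp, hnh⟩ := hne
  have hSL : ∀ a b : F, tv X a * tv Y b = tv Y b * tv X a := by
    intro a b
    have h1 := hcomm _ (mk_tv_mem X a) _ (mk_tv_mem Y b)
    have h2 : tv X a * tv Y b * (tv X a)⁻¹ = tv Y b := by
      refine eq_of_mk_eq p ?_ (tv_pow_prime p Y b) ?_
      · rw [← MulAut.conj_apply, ← map_pow, tv_pow_prime p Y b, map_one]
      · rw [QuotientGroup.mk_mul, QuotientGroup.mk_mul, QuotientGroup.mk_inv, h1, mul_inv_cancel_right]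
    exact mul_inv_eq_iff_eq_mul.mp h2
  have key : (X.hyp ⬝ᵥ Y.pt) • Matrix.vecMulVec X.pt Y.hyp = (Y.hyp ⬝ᵥ X.pt) • Matrix.vecMulVec Y.pt X.hyp := by
    have h1 := congrArg (fun M : Matrix.SpecialLinearGroup (Fin n) F => (M : Matrix (Fin n) (Fin n) F)) (hSL 1 1)
    simp [Matrix.SpecialLinearGroup.coe_mul, coe_tv, mul_add, add_mul, vmv_mul_vmv] at h1
    linear_combination (norm := module) h1
  have hYX : Y.hyp ⬝ᵥ X.pt = 0 := by
    by_contra h0
    exact hnp (vmv_eq_imp Y.pt_ne X.hyp_ne h0 key).1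
  have hXY : X.hyp ⬝ᵥ Y.pt = 0 := by
    rw [hYX, zero_smul] at key
    by_contra h0
    obtain ⟨i, hi⟩ := Function.ne_iff.mp X.pt_ne
    obtain ⟨j, hj⟩ := Function.ne_iff.mp Y.hyp_ne
    have := congrFun (congrFun key i) j
    simp [Matrix.vecMulVec_apply] at this
    rcases this with h' | h' | h'
    · exact h0 h'
    · exact hi h'
    · exact hj h'
  -- write a nontrivial element of the third group as a product
  have hsup : ∀ x ∈ rootGroup X ⊔ rootGroup Y, ∃ a b : F,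
      (QuotientGroup.mk (tv X a * tv Y b) : Matrix.ProjectiveSpecialLinearGroup (Fin n) F) = x := by
    intro x hx
    have hle : rootGroup X ⊔ rootGroup Y =
        ((ptv X).noncommCoprod (ptv Y) (fun a b => hcomm _ ⟨a, rfl⟩ _ ⟨b, rfl⟩)).range :=
      (MonoidHom.noncommCoprod_range _ _ _).symm
    rw [hle] at hx
    obtain ⟨⟨a, b⟩, rfl⟩ := hx
    exact ⟨a.toAdd, b.toAdd, rfl⟩
  obtain ⟨a, b, hab⟩ := hsup _ (hT (mk_tv_mem T 1))
  have hp1 : (tv X a * tv Y b) ^ p = 1 := by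
    rw [(show Commute (tv X a) (tv Y b) from hSL a b).mul_pow, tv_pow_prime p, tv_pow_prime p, one_mul]
  have heq := eq_of_mk_eq p hp1 (tv_pow_prime p T 1) hab
  have ha : a ≠ 0 := by
    rintro rfl
    apply hTY
    rw [tv_zero, one_mul] at hab
    have := same_of_mem (X := T) (Y := Y) (mk_tv_mem T 1) (hab ▸ mk_tv_mem Y b) (mk_tv_ne_one T one_ne_zero)
    exact rootGroup_eq_iff.mpr this
  have hb : b ≠ 0 := by
    rintro rfl
    apply hTX
    rw [tv_zero, mul_one] at hab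
    have := same_of_mem (X := T) (Y := X) (mk_tv_mem T 1) (hab ▸ mk_tv_mem X a) (mk_tv_ne_one T one_ne_zero)
    exact rootGroup_eq_iff.mpr this
  have heq' := congrArg (fun M : Matrix.SpecialLinearGroup (Fin n) F => (M : Matrix (Fin n) (Fin n) F)) heq
  simp [Matrix.SpecialLinearGroup.coe_mul, coe_tv, mul_add, add_mul, vmv_mul_vmv, hXY] at heq'
  have hM : a • Matrix.vecMulVec X.pt X.hyp + b • Matrix.vecMulVec Y.pt Y.hyp = Matrix.vecMulVec T.pt T.hyp := by
    linear_combination (norm := module) heq'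
  -- a vector killed by `Y.hyp` and not by `X.hyp`
  obtain ⟨x, hx1, hx2⟩ : ∃ x : Fin n → F, Y.hyp ⬝ᵥ x = 0 ∧ X.hyp ⬝ᵥ x ≠ 0 := by
    obtain ⟨j, hj⟩ := Function.ne_iff.mp Y.hyp_ne
    simp only [Pi.zero_apply] at hj
    by_contra hno
    push Not at hno
    refine hnh (SameHyp.symm ⟨X.hyp j / Y.hyp j, funext fun k => ?_⟩)
    have := hno (Pi.single k (Y.hyp j) - Pi.single j (Y.hyp k))
      (by simp [dotProduct_sub, mul_comm])
    simp [dotProduct_sub] at this
    rw [Pi.smul_apply, smul_eq_mul, div_mul_eq_mul_div, eq_div_iff hj]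
    linear_combination this
  obtain ⟨y, hy1, hy2⟩ : ∃ y : Fin n → F, X.hyp ⬝ᵥ y = 0 ∧ Y.hyp ⬝ᵥ y ≠ 0 := by
    obtain ⟨j, hj⟩ := Function.ne_iff.mp X.hyp_ne
    simp only [Pi.zero_apply] at hj
    by_contra hno
    push Not at hno
    refine hnh ⟨Y.hyp j / X.hyp j, funext fun k => ?_⟩
    have := hno (Pi.single k (X.hyp j) - Pi.single j (X.hyp k))
      (by simp [dotProduct_sub, mul_comm])
    simp [dotProduct_sub] at this
    rw [Pi.smul_apply, smul_eq_mul, div_mul_eq_mul_div, eq_div_iff hj]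
    linear_combination this
  have hvx : (a * (X.hyp ⬝ᵥ x)) • X.pt = (T.hyp ⬝ᵥ x) • T.pt := by
    have := congrArg (fun M => M *ᵥ x) hM
    simpa [Matrix.add_mulVec, Matrix.smul_mulVec, Matrix.vecMulVec_mulVec, hx1, smul_smul,
      op_smul_eq_smul] using this
  have hvy : (b * (Y.hyp ⬝ᵥ y)) • Y.pt = (T.hyp ⬝ᵥ y) • T.pt := by
    have := congrArg (fun M => M *ᵥ y) hM
    simpa [Matrix.add_mulVec, Matrix.smul_mulVec, Matrix.vecMulVec_mulVec, hy1, smul_smul,
      op_smul_eq_smul] using this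
  have hax : a * (X.hyp ⬝ᵥ x) ≠ 0 := mul_ne_zero ha hx2
  have hby : b * (Y.hyp ⬝ᵥ y) ≠ 0 := mul_ne_zero hb hy2
  have hTx : T.hyp ⬝ᵥ x ≠ 0 := by
    intro h0
    rw [h0, zero_smul, smul_eq_zero] at hvx
    exact hvx.elim hax X.pt_ne
  apply hnp
  refine ⟨(b * (Y.hyp ⬝ᵥ y))⁻¹ * ((T.hyp ⬝ᵥ y) * ((T.hyp ⬝ᵥ x)⁻¹ * (a * (X.hyp ⬝ᵥ x)))), ?_⟩
  rw [← smul_smul, ← smul_smul, ← smul_smul (T.hyp ⬝ᵥ x)⁻¹, hvx, smul_smul (T.hyp ⬝ᵥ x)⁻¹,
    inv_mul_cancel₀ hTx, one_smul, ← hvy, smul_smul, inv_mul_cancel₀ hby, one_smul]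

theorem rel_of_sameHyp {X Y : Flag F n} (h : SameHyp X Y) : Rel (rootGroup X) (rootGroup Y) := by
  by_cases he : rootGroup X = rootGroup Y
  · exact Or.inl he
  obtain ⟨c, hc⟩ := h
  have hc0 : c ≠ 0 := fun h0 => Y.hyp_ne (by rw [hc, h0, zero_smul])
  have hXY : X.hyp ⬝ᵥ Y.pt = 0 := by
    have := Y.orth
    rwa [hc, smul_dotProduct, smul_eq_mul, mul_eq_zero, or_iff_right hc0] at this
  have hYX : Y.hyp ⬝ᵥ X.pt = 0 := by rw [hc, smul_dotProduct, X.orth, smul_zero]
  have hnp : ¬ SamePt X Y := fun hh => he (rootGroup_eq_iff.mpr ⟨hh, ⟨c, hc⟩⟩)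
  let T : Flag F n :=
    { pt := X.pt + Y.pt
      hyp := X.hyp
      pt_ne := fun h => hnp ⟨-1, by rw [neg_one_smul]; exact (neg_eq_of_add_eq_zero_right h).symm⟩
      hyp_ne := X.hyp_ne
      orth := by rw [dotProduct_add, X.orth, hXY, add_zero] }
  refine Or.inr ⟨?_, T, ?_, ?_, ?_⟩
  · intro x hx y hy
    obtain ⟨a, rfl⟩ := mem_rootGroup.mp hx
    obtain ⟨b, rfl⟩ := mem_rootGroup.mp hy
    rw [← QuotientGroup.mk_mul, ← QuotientGroup.mk_mul]
    congr 1
    apply Subtype.ext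
    simp only [Matrix.SpecialLinearGroup.coe_mul, coe_tv]
    simp [mul_add, add_mul, vmv_mul_vmv, hXY, hYX]
    abel
  · intro h
    obtain ⟨⟨b, hb⟩, -⟩ := rootGroup_eq_iff.mp h
    have hb' : X.pt = b • (X.pt + Y.pt) := hb
    have hb0 : b ≠ 0 := fun h0 => X.pt_ne (by rw [hb', h0, zero_smul])
    refine hnp ⟨b⁻¹ - 1, ?_⟩
    have h2 : b⁻¹ • X.pt = X.pt + Y.pt := by
      conv_lhs => rw [hb', smul_smul, inv_mul_cancel₀ hb0, one_smul]
    rw [sub_smul, one_smul, h2, add_sub_cancel_left]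
  · intro h
    obtain ⟨⟨b, hb⟩, -⟩ := rootGroup_eq_iff.mp h
    have hb' : Y.pt = b • (X.pt + Y.pt) := hb
    have h2 : b • X.pt = (1 - b) • Y.pt := by
      rw [sub_smul, one_smul]; conv_rhs => arg 1; rw [hb']
      rw [smul_add, add_sub_cancel_right]
    by_cases hb1 : 1 - b = 0
    · rw [hb1, zero_smul] at h2
      have : b = 1 := (sub_eq_zero.mp hb1).symm
      rw [this, one_smul] at h2
      exact X.pt_ne h2
    · refine hnp ⟨(1 - b)⁻¹ * b, ?_⟩
      rw [← smul_smul, h2, smul_smul, inv_mul_cancel₀ hb1, one_smul]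
  · intro x hx
    obtain ⟨a, rfl⟩ := mem_rootGroup.mp hx
    have : tv T a = tv X a * tv Y (a / c) := by
      apply Subtype.ext
      simp only [Matrix.SpecialLinearGroup.coe_mul, coe_tv, T]
      simp [mul_add, add_mul, vmv_mul_vmv, hXY, X.orth, Matrix.add_vecMulVec, hc, Matrix.vecMulVec_smul,
        smul_smul, div_mul_cancel₀ _ hc0, add_assoc]
    rw [this, QuotientGroup.mk_mul]
    exact mul_mem (Subgroup.mem_sup_left (mk_tv_mem X a)) (Subgroup.mem_sup_right (mk_tv_mem Y _))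

theorem rel_iff {X Y : Flag F n} :
    Rel (rootGroup X) (rootGroup Y) ↔ SamePt X Y ∨ SameHyp X Y :=
  ⟨samePt_or_sameHyp_of_rel, fun h => h.elim rel_of_samePt rel_of_sameHyp⟩

end Finite

end CfsgLib.AutPSL
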