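import Cfsg.Agent.AutPSL.RootGroup
import Mathlib.LinearAlgebra.Matrix.Permutation
import Mathlib.Data.Matrix.PEquiv

/-!
The automorphisms of `PSL_n(F)` induced by semilinear maps and by inverse-transpose.
-/

set_option autoImplicit false

open Matrix

namespace CfsgLib.AutPSL

variable {F : Type*} [Field F] {n : ℕ}

theorem det_map_ringEquiv (σ : F ≃+* F) (A : Matrix (Fin n) (Fin n) F) : (A.map σ).det = σ A.det :=
  ((σ : F →+* F).map_det A).symm

theorem map_mul_ringEquiv (σ : F ≃+* F) (A B : Matrix (Fin n) (Fin n) F) :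
    (A * B).map σ = A.map σ * B.map σ := Matrix.map_mul (f := (σ : F →+* F))

theorem map_one_ringEquiv (σ : F ≃+* F) : (1 : Matrix (Fin n) (Fin n) F).map σ = 1 :=
  Matrix.map_one _ (map_zero σ) (map_one σ)

/-- Apply a field automorphism to the entries of an element of `GL`. -/
def glMap (σ : F ≃+* F) : GL (Fin n) F →* GL (Fin n) F :=
  Matrix.GeneralLinearGroup.map (σ : F →+* F)

theorem coe_glMap (σ : F ≃+* F) (g : GL (Fin n) F) :
    (glMap σ g : Matrix (Fin n) (Fin n) F) = (g : Matrix (Fin n) (Fin n) F).map σ := rfl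

/-- The semilinear map on `SL`. -/
def semiFun (g : GL (Fin n) F) (σ : F ≃+* F) (s : Matrix.SpecialLinearGroup (Fin n) F) :
    Matrix.SpecialLinearGroup (Fin n) F :=
  ⟨(g : Matrix (Fin n) (Fin n) F) * (s : Matrix (Fin n) (Fin n) F).map σ *
      ((g⁻¹ : GL (Fin n) F) : Matrix (Fin n) (Fin n) F), by
    rw [Matrix.det_mul, Matrix.det_mul, det_map_ringEquiv, s.2, map_one, mul_one, ← Matrix.det_mul,
      ← Units.val_mul, mul_inv_cancel, Units.val_one, Matrix.det_one]⟩

theorem coe_semiFun (g : GL (Fin n) F) (σ : F ≃+* F) (s : Matrix.SpecialLinearGroup (Fin n) F) :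
    (semiFun g σ s : Matrix (Fin n) (Fin n) F) =
      (g : Matrix (Fin n) (Fin n) F) * (s : Matrix (Fin n) (Fin n) F).map σ *
        ((g⁻¹ : GL (Fin n) F) : Matrix (Fin n) (Fin n) F) := rfl

theorem semiFun_mul (g : GL (Fin n) F) (σ : F ≃+* F) (s t : Matrix.SpecialLinearGroup (Fin n) F) :
    semiFun g σ (s * t) = semiFun g σ s * semiFun g σ t := by
  apply Subtype.ext
  simp only [Matrix.SpecialLinearGroup.coe_mul, coe_semiFun, map_mul_ringEquiv]
  simp only [mul_assoc]
  rw [Units.inv_mul_cancel_left]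

theorem semiFun_comp (g h : GL (Fin n) F) (σ τ : F ≃+* F) (s : Matrix.SpecialLinearGroup (Fin n) F) :
    semiFun g σ (semiFun h τ s) = semiFun (g * glMap σ h) (τ.trans σ) s := by
  apply Subtype.ext
  simp only [coe_semiFun, map_mul_ringEquiv, Units.val_mul, _root_.mul_inv_rev, ← map_inv, coe_glMap,
    Matrix.map_map]
  simp only [mul_assoc]
  rfl

theorem semiFun_one (s : Matrix.SpecialLinearGroup (Fin n) F) :
    semiFun 1 (RingEquiv.refl F) s = s := Subtype.ext (by simp [coe_semiFun])

/-- The semilinear automorphism of `SL`. -/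
def semiSL (g : GL (Fin n) F) (σ : F ≃+* F) :
    Matrix.SpecialLinearGroup (Fin n) F ≃* Matrix.SpecialLinearGroup (Fin n) F where
  toFun := semiFun g σ
  invFun := semiFun (glMap σ.symm g⁻¹) σ.symm
  left_inv s := by
    rw [semiFun_comp, ← map_mul, inv_mul_cancel, map_one, RingEquiv.self_trans_symm, semiFun_one]
  right_inv s := by
    rw [semiFun_comp]
    have h : g * glMap σ (glMap σ.symm g⁻¹) = 1 := by
      have : glMap σ (glMap σ.symm g⁻¹) = g⁻¹ := by
        apply Units.ext
        rw [coe_glMap, coe_glMap, Matrix.map_map]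
        ext i j
        simp
      rw [this, mul_inv_cancel]
    rw [h, RingEquiv.symm_trans_self, semiFun_one]
  map_mul' := semiFun_mul g σ

/-- Inverse transpose on `SL`. -/
def invTransSL : Matrix.SpecialLinearGroup (Fin n) F ≃* Matrix.SpecialLinearGroup (Fin n) F where
  toFun s := Matrix.SpecialLinearGroup.transpose s⁻¹
  invFun s := Matrix.SpecialLinearGroup.transpose s⁻¹
  left_inv s := Subtype.ext (by
    change ((Matrix.SpecialLinearGroup.transpose s⁻¹)⁻¹ : Matrix.SpecialLinearGroup (Fin n) F).val.transpose = s.val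
    rw [Matrix.SpecialLinearGroup.coe_inv]
    change ((s⁻¹ : Matrix.SpecialLinearGroup (Fin n) F).val.transpose.adjugate).transpose = _
    rw [← Matrix.adjugate_transpose, Matrix.transpose_transpose, Matrix.SpecialLinearGroup.coe_inv]
    change (s.val.adjugate).adjugate = _
    rcases Nat.lt_or_ge 1 n with hn | hn
    · rw [Matrix.adjugate_adjugate _ (by rw [Fintype.card_fin]; omega), s.2, one_pow, one_smul]
    · rcases Nat.eq_zero_or_pos n with rfl | h0
      · exact Subsingleton.elim _ _
      · have hn1 : n = 1 := by omega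
        subst hn1
        rw [Matrix.adjugate_subsingleton]
        have := s.2
        rw [Matrix.det_fin_one] at this
        ext i j
        rw [Subsingleton.elim i 0, Subsingleton.elim j 0, this, Matrix.one_apply_eq])
  right_inv s := Subtype.ext (by
    change ((Matrix.SpecialLinearGroup.transpose s⁻¹)⁻¹ : Matrix.SpecialLinearGroup (Fin n) F).val.transpose = s.val
    rw [Matrix.SpecialLinearGroup.coe_inv]
    change ((s⁻¹ : Matrix.SpecialLinearGroup (Fin n) F).val.transpose.adjugate).transpose = _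
    rw [← Matrix.adjugate_transpose, Matrix.transpose_transpose, Matrix.SpecialLinearGroup.coe_inv]
    change (s.val.adjugate).adjugate = _
    rcases Nat.lt_or_ge 1 n with hn | hn
    · rw [Matrix.adjugate_adjugate _ (by rw [Fintype.card_fin]; omega), s.2, one_pow, one_smul]
    · rcases Nat.eq_zero_or_pos n with rfl | h0
      · exact Subsingleton.elim _ _
      · have hn1 : n = 1 := by omega
        subst hn1
        rw [Matrix.adjugate_subsingleton]
        have := s.2
        rw [Matrix.det_fin_one] at this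
        ext i j
        rw [Subsingleton.elim i 0, Subsingleton.elim j 0, this, Matrix.one_apply_eq])
  map_mul' s t := Subtype.ext (by
    change ((s * t)⁻¹ : Matrix.SpecialLinearGroup (Fin n) F).val.transpose =
      (s⁻¹ : Matrix.SpecialLinearGroup (Fin n) F).val.transpose *
        (t⁻¹ : Matrix.SpecialLinearGroup (Fin n) F).val.transpose
    rw [_root_.mul_inv_rev, Matrix.SpecialLinearGroup.coe_mul, Matrix.transpose_mul])

theorem map_center_mulEquiv {G : Type*} [Group G] (e : G ≃* G) :
    (Subgroup.center G).map (e : G →* G) = Subgroup.center G := by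
  ext x
  constructor
  · rintro ⟨y, hy, rfl⟩
    exact Subgroup.mem_center_iff.mpr fun z => by
      obtain ⟨w, rfl⟩ := e.surjective z
      simp only [MonoidHom.coe_coe, ← map_mul]
      rw [Subgroup.mem_center_iff.mp hy w]
  · intro hx
    refine ⟨e.symm x, Subgroup.mem_center_iff.mpr fun z => ?_, by simp⟩
    apply e.injective
    simp [Subgroup.mem_center_iff.mp hx (e z)]

/-- An automorphism of `SL` descends to `PSL`. -/
def toPSLAut (e : Matrix.SpecialLinearGroup (Fin n) F ≃* Matrix.SpecialLinearGroup (Fin n) F) :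
    MulAut (Matrix.ProjectiveSpecialLinearGroup (Fin n) F) :=
  QuotientGroup.congr _ _ e (map_center_mulEquiv e)

theorem toPSLAut_mk (e : Matrix.SpecialLinearGroup (Fin n) F ≃* Matrix.SpecialLinearGroup (Fin n) F)
    (s : Matrix.SpecialLinearGroup (Fin n) F) :
    toPSLAut e (QuotientGroup.mk s) = QuotientGroup.mk (e s) := rfl

theorem aut_ext {α β : MulAut (Matrix.ProjectiveSpecialLinearGroup (Fin n) F)}
    (h : ∀ s : Matrix.SpecialLinearGroup (Fin n) F, α (QuotientGroup.mk s) = β (QuotientGroup.mk s)) :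
    α = β := by
  refine MulEquiv.ext fun x => ?_
  obtain ⟨s, rfl⟩ := QuotientGroup.mk_surjective x
  exact h s

/-- The automorphism of `PSL` induced by `v ↦ g σ(v)`. -/
def semiAut (g : GL (Fin n) F) (σ : F ≃+* F) : MulAut (Matrix.ProjectiveSpecialLinearGroup (Fin n) F) :=
  toPSLAut (semiSL g σ)

/-- The inverse-transpose automorphism of `PSL`. -/
def invTrans : MulAut (Matrix.ProjectiveSpecialLinearGroup (Fin n) F) := toPSLAut invTransSL

theorem semiAut_mk (g : GL (Fin n) F) (σ : F ≃+* F) (s : Matrix.SpecialLinearGroup (Fin n) F) :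
    semiAut g σ (QuotientGroup.mk s) = QuotientGroup.mk (semiFun g σ s) := rfl

theorem semiAut_mul (g h : GL (Fin n) F) (σ τ : F ≃+* F) :
    semiAut g σ * semiAut h τ = semiAut (g * glMap σ h) (τ.trans σ) :=
  aut_ext fun s => by rw [MulAut.mul_apply, semiAut_mk, semiAut_mk, semiAut_mk, semiFun_comp]

theorem semiAut_one : semiAut (1 : GL (Fin n) F) (RingEquiv.refl F) = 1 :=
  aut_ext fun s => by rw [semiAut_mk, semiFun_one]; rfl

theorem invTrans_mul_self : (invTrans : MulAut (Matrix.ProjectiveSpecialLinearGroup (Fin n) F)) * invTrans = 1 :=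
  aut_ext fun s => by
    show QuotientGroup.mk (invTransSL (invTransSL s)) = _
    exact congrArg _ (invTransSL.left_inv s)

/-- The transpose of `g⁻¹`. -/
def dualGL (g : GL (Fin n) F) : GL (Fin n) F where
  val := ((g⁻¹ : GL (Fin n) F) : Matrix (Fin n) (Fin n) F).transpose
  inv := (g : Matrix (Fin n) (Fin n) F).transpose
  val_inv := by rw [← Matrix.transpose_mul, ← Units.val_mul, mul_inv_cancel, Units.val_one, Matrix.transpose_one]
  inv_val := by rw [← Matrix.transpose_mul, ← Units.val_mul, inv_mul_cancel, Units.val_one, Matrix.transpose_one]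

theorem invTrans_mul_semiAut (g : GL (Fin n) F) (σ : F ≃+* F) :
    invTrans * semiAut g σ = semiAut (dualGL g) σ * invTrans := by
  refine aut_ext fun s => ?_
  show QuotientGroup.mk (invTransSL (semiFun g σ s)) = QuotientGroup.mk (semiFun (dualGL g) σ (invTransSL s))
  refine congrArg _ (Subtype.ext ?_)
  have h : (semiFun g σ s)⁻¹ = semiFun g σ s⁻¹ := (map_inv (semiSL g σ) s).symm
  change ((semiFun g σ s)⁻¹ : Matrix.SpecialLinearGroup (Fin n) F).val.transpose = _
  rw [h]
  change ((g : Matrix (Fin n) (Fin n) F) * (s⁻¹ : Matrix.SpecialLinearGroup (Fin n) F).val.map σ *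
      ((g⁻¹ : GL (Fin n) F) : Matrix (Fin n) (Fin n) F)).transpose =
    ((g⁻¹ : GL (Fin n) F) : Matrix (Fin n) (Fin n) F).transpose *
      ((s⁻¹ : Matrix.SpecialLinearGroup (Fin n) F).val.transpose).map σ *
        (g : Matrix (Fin n) (Fin n) F).transpose
  rw [Matrix.transpose_mul, Matrix.transpose_mul, ← Matrix.transpose_map, mul_assoc]

/-- The image of a flag under a semilinear map. -/
def Flag.semi (g : GL (Fin n) F) (σ : F ≃+* F) (X : Flag F n) : Flag F n where
  pt := (g : Matrix (Fin n) (Fin n) F) *ᵥ (σ ∘ X.pt)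
  hyp := (σ ∘ X.hyp) ᵥ* ((g⁻¹ : GL (Fin n) F) : Matrix (Fin n) (Fin n) F)
  pt_ne := fun h => by
    have := congrArg (((g⁻¹ : GL (Fin n) F) : Matrix (Fin n) (Fin n) F) *ᵥ ·) h
    simp only [Matrix.mulVec_mulVec, ← Units.val_mul, inv_mul_cancel, Units.val_one, Matrix.one_mulVec,
      Matrix.mulVec_zero] at this
    exact X.pt_ne (funext fun i => σ.injective ((congrFun this i).trans (map_zero σ).symm))
  hyp_ne := fun h => by
    have := congrArg (· ᵥ* (g : Matrix (Fin n) (Fin n) F)) h
    simp only [Matrix.vecMul_vecMul, ← Units.val_mul, inv_mul_cancel, Units.val_one, Matrix.vecMul_one,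
      Matrix.zero_vecMul] at this
    exact X.hyp_ne (funext fun i => σ.injective ((congrFun this i).trans (map_zero σ).symm))
  orth := by
    rw [Matrix.dotProduct_mulVec, Matrix.vecMul_vecMul, ← Units.val_mul, inv_mul_cancel, Units.val_one,
      Matrix.vecMul_one]
    have := congrArg σ X.orth
    simpa [dotProduct, map_sum] using this

/-- The dual flag. -/
def Flag.swap (X : Flag F n) : Flag F n where
  pt := X.hyp
  hyp := X.pt
  pt_ne := X.hyp_ne
  hyp_ne := X.pt_ne
  orth := by rw [dotProduct_comm]; exact X.orth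

theorem semiFun_tv (g : GL (Fin n) F) (σ : F ≃+* F) (X : Flag F n) (c : F) :
    semiFun g σ (tv X c) = tv (X.semi g σ) (σ c) := by
  apply Subtype.ext
  have hmap : (1 + c • Matrix.vecMulVec X.pt X.hyp).map σ =
      1 + σ c • Matrix.vecMulVec (σ ∘ X.pt) (σ ∘ X.hyp) := by
    ext i j
    simp [Matrix.one_apply, apply_ite σ, Matrix.vecMulVec_apply]
  rw [coe_semiFun, coe_tv, hmap, coe_tv]
  simp only [Flag.semi, mul_add, add_mul, mul_one, Matrix.mul_smul, Matrix.smul_mul,
    Matrix.mul_vecMulVec, Matrix.vecMulVec_mul]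
  rw [← Units.val_mul, mul_inv_cancel, Units.val_one]

theorem invTransSL_tv (X : Flag F n) (c : F) : invTransSL (tv X c) = tv X.swap (-c) := by
  have h : (tv X c)⁻¹ = tv X (-c) := by
    rw [inv_eq_iff_mul_eq_one, ← tv_add, add_neg_cancel, tv_zero]
  apply Subtype.ext
  change ((tv X c)⁻¹ : Matrix.SpecialLinearGroup (Fin n) F).val.transpose = _
  rw [h, coe_tv, coe_tv]
  simp [Flag.swap, Matrix.transpose_add, Matrix.transpose_smul, Matrix.transpose_vecMulVec]

theorem map_semiAut_rootGroup (g : GL (Fin n) F) (σ : F ≃+* F) (X : Flag F n) :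
    (rootGroup X).map (semiAut g σ).toMonoidHom = rootGroup (X.semi g σ) := by
  ext x
  constructor
  · rintro ⟨y, hy, rfl⟩
    obtain ⟨c, rfl⟩ := mem_rootGroup.mp hy
    exact mem_rootGroup.mpr ⟨σ c, congrArg _ (semiFun_tv g σ X c).symm⟩
  · intro hx
    obtain ⟨c, rfl⟩ := mem_rootGroup.mp hx
    refine ⟨_, mk_tv_mem X (σ.symm c), ?_⟩
    show semiAut g σ (QuotientGroup.mk (tv X (σ.symm c))) = _
    rw [semiAut_mk, semiFun_tv, RingEquiv.apply_symm_apply]

theorem map_invTrans_rootGroup (X : Flag F n) :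
    (rootGroup X).map (invTrans : MulAut (Matrix.ProjectiveSpecialLinearGroup (Fin n) F)).toMonoidHom =
      rootGroup X.swap := by
  ext x
  constructor
  · rintro ⟨y, hy, rfl⟩
    obtain ⟨c, rfl⟩ := mem_rootGroup.mp hy
    exact mem_rootGroup.mpr ⟨-c, congrArg _ (invTransSL_tv X c).symm⟩
  · intro hx
    obtain ⟨c, rfl⟩ := mem_rootGroup.mp hx
    refine ⟨_, mk_tv_mem X (-c), ?_⟩
    show QuotientGroup.mk (invTransSL (tv X (-c))) = _
    rw [invTransSL_tv, neg_neg]

/-- A matrix moving the standard flag to a given one. -/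
theorem exists_semi_eq_standard (hn : 2 ≤ n) (X₀ X : Flag F n)
    (h0 : X₀.pt = Pi.single ⟨0, by omega⟩ 1) (h1 : X₀.hyp = Pi.single ⟨n - 1, by omega⟩ 1) :
    ∃ g : GL (Fin n) F, rootGroup (X₀.semi g (RingEquiv.refl F)) = rootGroup X := by
  classical
  set a : Fin n := ⟨0, by omega⟩
  set b : Fin n := ⟨n - 1, by omega⟩
  have hab : a ≠ b := by
    intro h
    have : (0 : ℕ) = n - 1 := congrArg Fin.val h
    omega
  -- first column `X.pt`
  obtain ⟨A, hA⟩ : ∃ A : GL (Fin n) F, (A : Matrix (Fin n) (Fin n) F) *ᵥ Pi.single a 1 = X.pt := by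
    obtain ⟨k, hk⟩ := Function.ne_iff.mp X.pt_ne
    simp only [Pi.zero_apply] at hk
    let v' : Fin n → F := fun i => X.pt (Equiv.swap a k i)
    let M : Matrix (Fin n) (Fin n) F := (1 : Matrix (Fin n) (Fin n) F).updateCol a v'
    have hM : M.det ≠ 0 := by
      rw [← Matrix.cramer_apply, Matrix.cramer_one, Module.End.one_apply]
      simpa [v'] using hk
    let P : Matrix (Fin n) (Fin n) F := (Equiv.swap a k).permMatrix F
    refine ⟨Matrix.GeneralLinearGroup.mkOfDetNeZero (P * M) ?_, ?_⟩
    · rw [Matrix.det_mul, Matrix.det_permutation]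
      refine mul_ne_zero ?_ hM
      rcases Int.units_eq_one_or (Equiv.Perm.sign (Equiv.swap a k)) with h | h <;> simp [h]
    · show (P * M) *ᵥ Pi.single a 1 = X.pt
      rw [← Matrix.mulVec_mulVec]
      have hcol : M *ᵥ Pi.single a 1 = v' := by
        ext i; simp [M]
      rw [hcol, Matrix.permMatrix_mulVec]
      ext i
      simp [v']
  set φ : Fin n → F := X.hyp ᵥ* (A : Matrix (Fin n) (Fin n) F) with hφ
  have hφa : φ a = 0 := by
    have := X.orth
    rw [← hA, Matrix.dotProduct_mulVec, ← hφ, dotProduct_single_one] at this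
    exact this
  have hφ0 : φ ≠ 0 := by
    intro h
    have := congrArg (· ᵥ* ((A⁻¹ : GL (Fin n) F) : Matrix (Fin n) (Fin n) F)) (hφ.symm.trans h)
    simp only [Matrix.vecMul_vecMul, ← Units.val_mul, mul_inv_cancel, Units.val_one, Matrix.vecMul_one,
      Matrix.zero_vecMul] at this
    exact X.hyp_ne this
  obtain ⟨k, hk⟩ := Function.ne_iff.mp hφ0
  simp only [Pi.zero_apply] at hk
  have hka : k ≠ a := fun h => hk (h ▸ hφa)
  let π : Equiv.Perm (Fin n) := Equiv.swap k b
  have hπa : π a = a := Equiv.swap_apply_of_ne_of_ne hka.symm hab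
  let Q : Matrix (Fin n) (Fin n) F := π.permMatrix F
  let N : Matrix (Fin n) (Fin n) F := (1 : Matrix (Fin n) (Fin n) F).updateRow b φ
  let N' : Matrix (Fin n) (Fin n) F := (1 : Matrix (Fin n) (Fin n) F).updateRow k φ
  have hN' : N'.det ≠ 0 := by
    rw [← Matrix.det_transpose]
    simp only [N']
    rw [← Matrix.updateCol_transpose, Matrix.transpose_one, ← Matrix.cramer_apply,
      Matrix.cramer_one, Module.End.one_apply]
    exact hk
  -- `g = A * (Q * N')⁻¹`
  have hQN : (Q * N').det ≠ 0 := by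
    rw [Matrix.det_mul, Matrix.det_permutation]
    refine mul_ne_zero ?_ hN'
    rcases Int.units_eq_one_or (Equiv.Perm.sign π) with h | h <;> simp [h]
  let B : GL (Fin n) F := Matrix.GeneralLinearGroup.mkOfDetNeZero (Q * N') hQN
  have hBa : (B : Matrix (Fin n) (Fin n) F) *ᵥ Pi.single a 1 = Pi.single a 1 := by
    show (Q * N') *ᵥ Pi.single a 1 = _
    rw [← Matrix.mulVec_mulVec]
    have : N' *ᵥ Pi.single a 1 = Pi.single a 1 := by
      ext i
      rcases eq_or_ne i k with rfl | hik
      · simp [N', hφa, hka]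
      · simp [N', Matrix.updateRow_ne hik, Matrix.one_apply, Pi.single_apply]
    rw [this, Matrix.permMatrix_mulVec]
    ext i
    rcases eq_or_ne i a with rfl | hia
    · simp [hπa]
    · have : π i ≠ a := fun h => hia (π.injective (h.trans hπa.symm))
      simp [hia, this]
  have hBb : (Pi.single b 1 : Fin n → F) ᵥ* (B : Matrix (Fin n) (Fin n) F) = φ := by
    show Pi.single b 1 ᵥ* (Q * N') = _
    rw [← Matrix.vecMul_vecMul]
    have : (Pi.single b 1 : Fin n → F) ᵥ* Q = Pi.single k 1 := by
      ext i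
      simp [Q, Equiv.Perm.permMatrix, PEquiv.toMatrix_apply, π, Equiv.swap_apply_right, Pi.single_apply, eq_comm]
    rw [this]
    ext i
    simp [N']
  refine ⟨A * B⁻¹, rootGroup_eq_iff_of ?_ ?_⟩
  · show ((A * B⁻¹ : GL (Fin n) F) : Matrix (Fin n) (Fin n) F) *ᵥ (RingEquiv.refl F ∘ X₀.pt) = X.pt
    rw [h0, Units.val_mul, ← Matrix.mulVec_mulVec]
    conv_lhs => arg 2; arg 2; change Pi.single a 1
    conv_lhs => arg 2; arg 2; rw [← hBa]
    rw [Matrix.mulVec_mulVec (v := Pi.single a 1), ← Units.val_mul, inv_mul_cancel, Units.val_one,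
      Matrix.one_mulVec, hA]
  · show (RingEquiv.refl F ∘ X₀.hyp) ᵥ* (((A * B⁻¹)⁻¹ : GL (Fin n) F) : Matrix (Fin n) (Fin n) F) = X.hyp
    rw [h1, _root_.mul_inv_rev, inv_inv, Units.val_mul, ← Matrix.vecMul_vecMul]
    conv_lhs => arg 1; arg 1; change Pi.single b 1
    rw [hBb, hφ, Matrix.vecMul_vecMul, ← Units.val_mul, mul_inv_cancel, Units.val_one, Matrix.vecMul_one]
where
  rootGroup_eq_iff_of {X Y : Flag F n} (h : X.pt = Y.pt) (h' : X.hyp = Y.hyp) : rootGroup X = rootGroup Y := by
    obtain ⟨_, _, _, _, _⟩ := X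
    obtain ⟨_, _, _, _, _⟩ := Y
    simp only at h h'
    subst h h'
    rfl

end CfsgLib.AutPSL
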