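import Mathlib.GroupTheory.Sylow
import Mathlib.LinearAlgebra.Matrix.Block
import Cfsg.Agent.AutPSL.Semilinear

/-!
The upper unitriangular group is a Sylow `p`-subgroup of `PSL_n(q)` and its centre is a root
subgroup; hence automorphisms permute root subgroups.
-/

set_option autoImplicit false

open Matrix

namespace CfsgLib.AutPSL

variable {F : Type*} [Field F] {n : ℕ}

/-- Upper unitriangular elements. -/
def IsUnitri (s : Matrix.SpecialLinearGroup (Fin n) F) : Prop :=
  (∀ i, (s : Matrix (Fin n) (Fin n) F) i i = 1) ∧ ∀ i j, j < i → (s : Matrix (Fin n) (Fin n) F) i j = 0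

theorem isUnitri_mul {s t : Matrix.SpecialLinearGroup (Fin n) F} (hs : IsUnitri s) (ht : IsUnitri t) :
    IsUnitri (s * t) := by
  constructor
  · intro i
    rw [Matrix.SpecialLinearGroup.coe_mul, Matrix.mul_apply, Finset.sum_eq_single i]
    · rw [hs.1, ht.1, one_mul]
    · intro k _ hk
      rcases lt_or_gt_of_ne hk with h | h
      · rw [hs.2 i k h, zero_mul]
      · rw [ht.2 k i h, mul_zero]
    · simp
  · intro i j hji
    rw [Matrix.SpecialLinearGroup.coe_mul, Matrix.mul_apply]
    refine Finset.sum_eq_zero fun k _ => ?_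
    rcases lt_or_ge k i with h | h
    · rw [hs.2 i k h, zero_mul]
    · rw [ht.2 k j (lt_of_lt_of_le hji h), mul_zero]

theorem isUnitri_one : IsUnitri (1 : Matrix.SpecialLinearGroup (Fin n) F) := by
  refine ⟨fun i => ?_, fun i j h => ?_⟩
  · simp
  · simp [ne_of_gt h]

variable [Finite F]

/-- The upper unitriangular subgroup of `SL`. -/
def unitriSL (F : Type*) [Field F] [Finite F] (n : ℕ) : Subgroup (Matrix.SpecialLinearGroup (Fin n) F) where
  carrier := {s | IsUnitri s}
  mul_mem' := isUnitri_mul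
  one_mem' := isUnitri_one
  inv_mem' {s} hs := by
    have hpow : ∀ k : ℕ, IsUnitri (s ^ k) := by
      intro k
      induction k with
      | zero => simpa using isUnitri_one
      | succ k ih => rw [pow_succ]; exact isUnitri_mul ih hs
    have : s⁻¹ = s ^ (orderOf s - 1) := by
      rw [inv_eq_iff_mul_eq_one, ← pow_succ', Nat.sub_add_cancel (orderOf_pos s), pow_orderOf_eq_one]
    show IsUnitri s⁻¹
    rw [this]; exact hpow _

theorem card_unitriSL :
    Nat.card (unitriSL F n) = Nat.card F ^ (∑ j : Fin n, (j : ℕ)) := by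
  classical
  have := Fintype.ofFinite F
  let e : unitriSL F n ≃ ((Σ j : Fin n, Fin (j : ℕ)) → F) :=
    { toFun := fun s p => ((s : Matrix.SpecialLinearGroup (Fin n) F) : Matrix (Fin n) (Fin n) F) ⟨p.2, p.2.2.trans p.1.2⟩ p.1
      invFun := fun f =>
        ⟨⟨Matrix.of fun i j => if h : (i : ℕ) < j then f ⟨j, ⟨i, h⟩⟩ else if i = j then 1 else 0, by
            rw [Matrix.det_of_isUpperTriangular]
            · exact Finset.prod_eq_one fun i _ => by simp
            · intro i j (hij : j < i)
              simp [lt_asymm hij, ne_of_gt hij]⟩,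
          ⟨fun i => by simp, fun i j hij => by
            simp [lt_asymm hij, ne_of_gt hij]⟩⟩
      left_inv := fun s => by
        refine Subtype.ext (Subtype.ext (Matrix.ext fun i j => ?_))
        rcases lt_trichotomy i j with h | h | h
        · simp [h, not_le.mpr h]
        · subst h
          simp [s.2.1 i]
        · have h1 : ¬ (i : ℕ) < j := by omega
          simp [h1, ne_of_gt h, s.2.2 i j h]
      right_inv := fun f => by
        funext ⟨j, i⟩
        exact dif_pos i.2 }
  rw [Nat.card_congr e, Nat.card_fun, Nat.card_eq_fintype_card (α := Σ j : Fin n, Fin (j : ℕ)),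
    Fintype.card_sigma]
  simp

/-- The unitriangular subgroup of `PSL`. -/
def unitri (F : Type*) [Field F] [Finite F] (n : ℕ) :
    Subgroup (Matrix.ProjectiveSpecialLinearGroup (Fin n) F) :=
  (unitriSL F n).map (QuotientGroup.mk' (Subgroup.center (Matrix.SpecialLinearGroup (Fin n) F)))

theorem eq_one_of_isUnitri_of_center {s : Matrix.SpecialLinearGroup (Fin n) F} (hs : IsUnitri s)
    (hc : s ∈ Subgroup.center (Matrix.SpecialLinearGroup (Fin n) F)) : s = 1 := by
  rcases Nat.eq_zero_or_pos n with rfl | hn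
  · exact Subsingleton.elim _ _
  obtain ⟨r, -, hr⟩ := Matrix.SpecialLinearGroup.mem_center_iff.mp hc
  have h1 := hs.1 ⟨0, hn⟩
  rw [← hr] at h1
  simp at h1
  exact Subtype.ext (by rw [← hr, h1, map_one]; rfl)

theorem mk_injOn_unitri {s t : Matrix.SpecialLinearGroup (Fin n) F} (hs : s ∈ unitriSL F n) (ht : t ∈ unitriSL F n)
    (h : (QuotientGroup.mk s : Matrix.ProjectiveSpecialLinearGroup (Fin n) F) = QuotientGroup.mk t) : s = t :=
  inv_mul_eq_one.mp (eq_one_of_isUnitri_of_center ((unitriSL F n).mul_mem ((unitriSL F n).inv_mem hs) ht)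
    (QuotientGroup.eq.mp h))

theorem card_unitri : Nat.card (unitri F n) = Nat.card F ^ (∑ j : Fin n, (j : ℕ)) := by
  rw [← card_unitriSL (F := F) (n := n)]
  refine (Nat.card_congr (Equiv.ofBijective
    (fun s : unitriSL F n => (⟨QuotientGroup.mk (s : Matrix.SpecialLinearGroup (Fin n) F), ⟨s, s.2, rfl⟩⟩ : unitri F n))
    ⟨fun s t h => Subtype.ext (mk_injOn_unitri s.2 t.2 (congrArg Subtype.val h)), ?_⟩)).symm
  rintro ⟨x, s, hs, rfl⟩
  exact ⟨⟨s, hs⟩, rfl⟩

theorem not_dvd_index_unitri {p : ℕ} [Fact p.Prime] [CharP F p] (hn : 1 ≤ n) :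
    ¬ p ∣ (unitri F n).index := by
  classical
  have := Fintype.ofFinite F
  obtain ⟨k, -, hk⟩ := FiniteField.card F p
  have h := CfsgLib.Linear.card_PSL_mul (F := F) rfl n hn
  rw [← Subgroup.card_mul_index (unitri F n), card_unitri, Nat.card_eq_fintype_card] at h
  have hprod : ∏ i : Fin n, (Fintype.card F ^ n - Fintype.card F ^ (i : ℕ)) =
      Fintype.card F ^ (∑ j : Fin n, (j : ℕ)) * ∏ i : Fin n, (Fintype.card F ^ (n - (i : ℕ)) - 1) := by
    rw [← Finset.prod_pow_eq_pow_sum, ← Finset.prod_mul_distrib]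
    refine Finset.prod_congr rfl fun i _ => ?_
    rw [Nat.mul_sub_one, ← pow_add, Nat.add_sub_cancel' (by omega)]
  rw [hprod] at h
  have h' : Nat.gcd n (Fintype.card F - 1) * ((Fintype.card F - 1) * (unitri F n).index) =
      ∏ i : Fin n, (Fintype.card F ^ (n - (i : ℕ)) - 1) := by
    refine Nat.eq_of_mul_eq_mul_left (pow_pos (Fintype.card_pos (α := F)) (∑ j : Fin n, (j : ℕ))) ?_
    rw [← h]; ring
  intro hd
  have h2 : p ∣ ∏ i : Fin n, (Fintype.card F ^ (n - (i : ℕ)) - 1) :=
    h' ▸ (hd.mul_left _).mul_left _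
  obtain ⟨i, -, hi⟩ := (Fact.out : p.Prime).prime.exists_mem_finset_dvd h2
  have hq : p ∣ Fintype.card F ^ (n - (i : ℕ)) :=
    dvd_pow (hk ▸ dvd_pow_self p k.pos.ne') (by omega)
  have := Nat.dvd_sub hq hi
  rw [Nat.sub_sub_self (Nat.one_le_pow _ _ Fintype.card_pos)] at this
  exact (Fact.out : p.Prime).not_dvd_one this

theorem isPGroup_unitri (p : ℕ) [Fact p.Prime] [CharP F p] : IsPGroup p (unitri F n) := by
  classical
  have := Fintype.ofFinite F
  obtain ⟨k, -, hk⟩ := FiniteField.card F p
  refine IsPGroup.of_card (n := (k : ℕ) * ∑ j : Fin n, (j : ℕ)) ?_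
  rw [card_unitri, Nat.card_eq_fintype_card, hk, pow_mul]

/-- The standard flag. -/
def stdFlag (F : Type*) [Field F] {n : ℕ} (hn : 2 ≤ n) : Flag F n where
  pt := Pi.single ⟨0, by omega⟩ 1
  hyp := Pi.single ⟨n - 1, by omega⟩ 1
  pt_ne := Pi.single_ne_zero_iff.mpr one_ne_zero
  hyp_ne := Pi.single_ne_zero_iff.mpr one_ne_zero
  orth := by
    rw [single_dotProduct, one_mul, Pi.single_eq_of_ne]
    intro h
    have : n - 1 = 0 := congrArg Fin.val h
    omega

theorem tv_stdFlag_mem (hn : 2 ≤ n) (c : F) : tv (stdFlag F hn) c ∈ unitriSL F n := by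
  constructor
  · intro i
    have : ¬ (i = (⟨0, by omega⟩ : Fin n) ∧ i = ⟨n - 1, by omega⟩) := by
      rintro ⟨rfl, h⟩
      have : 0 = n - 1 := congrArg Fin.val h
      omega
    simp only [not_and] at this
    by_cases hi : i = (⟨0, by omega⟩ : Fin n)
    · simp [coe_tv, stdFlag, Matrix.vecMulVec_apply, Pi.single_eq_of_ne (this hi)]
    · simp [coe_tv, stdFlag, Matrix.vecMulVec_apply, Pi.single_eq_of_ne hi]
  · intro i j hji
    have hi : i ≠ (⟨0, by omega⟩ : Fin n) := by
      intro h
      rw [h] at hji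
      simp [Fin.lt_def] at hji
    simp [coe_tv, stdFlag, Matrix.vecMulVec_apply, Pi.single_eq_of_ne hi, ne_of_gt hji]

/-- The centre of the unitriangular group is the standard root subgroup. -/
theorem centralizer_inf_unitri (hn : 2 ≤ n) :
    Subgroup.centralizer (unitri F n : Set (Matrix.ProjectiveSpecialLinearGroup (Fin n) F)) ⊓ unitri F n =
      rootGroup (stdFlag F hn) := by
  classical
  apply le_antisymm
  · rintro x ⟨hx, hxU⟩
    obtain ⟨s, hs, rfl⟩ := hxU
    have hcomm : ∀ t ∈ unitriSL F n, s * t = t * s := fun t ht => by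
      refine mk_injOn_unitri ((unitriSL F n).mul_mem hs ht) ((unitriSL F n).mul_mem ht hs) ?_
      exact (Subgroup.mem_centralizer_iff.mp hx (QuotientGroup.mk t) ⟨t, ht, rfl⟩).symm
    have key : ∀ (i j : Fin n), i < j →
        (∀ a, a ≠ i → (s : Matrix (Fin n) (Fin n) F) a i = 0) ∧ ∀ b, b ≠ j → (s : Matrix (Fin n) (Fin n) F) j b = 0 := by
      intro i j hij
      have ht : Matrix.SpecialLinearGroup.transvection (ne_of_lt hij) (1 : F) ∈ unitriSL F n := by
        constructor
        · intro a
          rw [CfsgLib.Linear.transvec_coe]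
          simp [Matrix.transvection, Matrix.single_apply, hij.ne]
          intro h; subst h; exact hij.ne'
        · intro a b hba
          rw [CfsgLib.Linear.transvec_coe]
          simp [Matrix.transvection, ne_of_gt hba, Matrix.single_apply]
          intro h1 h2; subst h1 h2; exact absurd hij (lt_asymm hba)
      have h := congrArg (fun M : Matrix.SpecialLinearGroup (Fin n) F => (M : Matrix (Fin n) (Fin n) F)) (hcomm _ ht)
      simp only [Matrix.SpecialLinearGroup.coe_mul, CfsgLib.Linear.transvec_coe, Matrix.transvection,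
        mul_add, add_mul, mul_one, one_mul] at h
      have h' := add_left_cancel h
      constructor
      · intro a ha
        have := congrFun (congrFun h' a) j
        simpa [Matrix.single_apply, Matrix.mul_apply, ha.symm, ite_and] using this
      · intro b hb
        have := congrFun (congrFun h' i) b
        simpa [Matrix.single_apply, Matrix.mul_apply, hb.symm, ite_and] using this.symm
    refine mem_rootGroup.mpr ⟨(s : Matrix (Fin n) (Fin n) F) ⟨0, by omega⟩ ⟨n - 1, by omega⟩, congrArg _ ?_⟩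
    apply Subtype.ext
    ext a b
    rw [coe_tv]
    simp only [stdFlag, Matrix.add_apply, Matrix.smul_apply, Matrix.vecMulVec_apply, smul_eq_mul]
    rcases eq_or_ne a b with rfl | hab
    · have := (tv_stdFlag_mem (F := F) hn ((s : Matrix (Fin n) (Fin n) F) ⟨0, by omega⟩ ⟨n - 1, by omega⟩)).1 a
      simp only [coe_tv, stdFlag, Matrix.add_apply, Matrix.smul_apply, Matrix.vecMulVec_apply, smul_eq_mul] at this
      rw [this, hs.1]
    · rw [Matrix.one_apply_ne hab, zero_add]
      by_cases hb : b = (⟨n - 1, by omega⟩ : Fin n)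
      · subst hb
        by_cases ha : a = (⟨0, by omega⟩ : Fin n)
        · subst ha; simp
        · have hlt : (⟨0, by omega⟩ : Fin n) < a := Nat.pos_of_ne_zero fun h => ha (Fin.ext h)
          rw [(key _ a hlt).2 _ hab.symm, Pi.single_eq_of_ne ha]
          simp
      · have hlt : b < (⟨n - 1, by omega⟩ : Fin n) := by
          have : (b : ℕ) ≠ n - 1 := fun h => hb (Fin.ext h)
          show (b : ℕ) < n - 1
          omega
        rw [(key b _ hlt).1 a hab, Pi.single_eq_of_ne hb]
        simp
  · intro x hx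
    obtain ⟨c, rfl⟩ := mem_rootGroup.mp hx
    refine ⟨Subgroup.mem_centralizer_iff.mpr ?_, ⟨_, tv_stdFlag_mem hn c, rfl⟩⟩
    rintro _ ⟨t, ht, rfl⟩
    show (QuotientGroup.mk t : Matrix.ProjectiveSpecialLinearGroup (Fin n) F) * QuotientGroup.mk _ = _
    suffices h : t * tv (stdFlag F hn) c = tv (stdFlag F hn) c * t by
      rw [← QuotientGroup.mk_mul, h, QuotientGroup.mk_mul]
      rfl
    apply Subtype.ext
    simp only [Matrix.SpecialLinearGroup.coe_mul, coe_tv, mul_add, add_mul, mul_one, one_mul,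
      Matrix.mul_smul, Matrix.smul_mul, Matrix.mul_vecMulVec, Matrix.vecMulVec_mul]
    simp only [stdFlag]
    have h1 : (t : Matrix (Fin n) (Fin n) F) *ᵥ Pi.single (⟨0, by omega⟩ : Fin n) 1 = Pi.single ⟨0, by omega⟩ 1 := by
      ext a
      rw [Matrix.mulVec_single_one]
      by_cases ha : a = (⟨0, by omega⟩ : Fin n)
      · subst ha; simp [ht.1]
      · have hlt : (⟨0, by omega⟩ : Fin n) < a := Nat.pos_of_ne_zero fun h => ha (Fin.ext h)
        simp [ha, ht.2 a _ hlt]
    have h2 : (Pi.single (⟨n - 1, by omega⟩ : Fin n) 1) ᵥ* (t : Matrix (Fin n) (Fin n) F) = Pi.single ⟨n - 1, by omega⟩ 1 := by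
      ext b
      rw [Matrix.single_one_vecMul]
      by_cases hb : b = (⟨n - 1, by omega⟩ : Fin n)
      · subst hb; simp [ht.1]
      · have hlt : b < (⟨n - 1, by omega⟩ : Fin n) := by
          have : (b : ℕ) ≠ n - 1 := fun h => hb (Fin.ext h)
          show (b : ℕ) < n - 1
          omega
        simp [hb, ht.2 _ b hlt]
    rw [h1, h2]

theorem map_centralizer_inf {G : Type*} [Group G] (e : G ≃* G) (H : Subgroup G) :
    (Subgroup.centralizer (H : Set G) ⊓ H).map e.toMonoidHom =
      Subgroup.centralizer (H.map e.toMonoidHom : Set G) ⊓ H.map e.toMonoidHom := by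
  ext x
  obtain ⟨y, rfl⟩ := e.surjective x
  constructor
  · rintro ⟨z, ⟨hz1, hz2⟩, hzy⟩
    have : z = y := e.injective hzy
    subst this
    refine ⟨?_, ⟨z, hz2, rfl⟩⟩
    rintro _ ⟨w, hw, rfl⟩
    show e w * e z = e z * e w
    rw [← map_mul, ← map_mul, Subgroup.mem_centralizer_iff.mp hz1 w hw]
  · rintro ⟨h1, ⟨z, hz, hzy⟩⟩
    have : z = y := e.injective hzy
    subst this
    refine ⟨z, ⟨Subgroup.mem_centralizer_iff.mpr fun w hw => e.injective ?_, hz⟩, rfl⟩
    rw [map_mul, map_mul]
    exact h1 _ ⟨w, hw, rfl⟩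

/-- Automorphisms permute root subgroups. -/
theorem exists_map_rootGroup (hn : 2 ≤ n) (α : MulAut (Matrix.ProjectiveSpecialLinearGroup (Fin n) F))
    (X : Flag F n) : ∃ Y : Flag F n, (rootGroup X).map α.toMonoidHom = rootGroup Y := by
  classical
  obtain ⟨p, hp⟩ := CharP.exists F
  have := Fact.mk (CharP.char_is_prime F p)
  have : Finite (Matrix.SpecialLinearGroup (Fin n) F) := inferInstance
  obtain ⟨g, hg⟩ := exists_semi_eq_standard hn (stdFlag F hn) X rfl rfl
  rw [← map_semiAut_rootGroup] at hg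
  rw [← hg, Subgroup.map_map]
  set β : MulAut (Matrix.ProjectiveSpecialLinearGroup (Fin n) F) := α * semiAut g (RingEquiv.refl F) with hβ
  have hcomp : α.toMonoidHom.comp (semiAut g (RingEquiv.refl F)).toMonoidHom = β.toMonoidHom := rfl
  rw [hcomp, ← centralizer_inf_unitri hn, map_centralizer_inf]
  let P : Sylow p (Matrix.ProjectiveSpecialLinearGroup (Fin n) F) :=
    (isPGroup_unitri (F := F) p).toSylow (not_dvd_index_unitri (F := F) (by omega))
  let Q : Sylow p (Matrix.ProjectiveSpecialLinearGroup (Fin n) F) :=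
    ((isPGroup_unitri (F := F) (n := n) p).map β.toMonoidHom).toSylow (by
      rw [Subgroup.index_map_of_bijective (f := β.toMonoidHom) β.bijective]
      exact not_dvd_index_unitri (by omega))
  obtain ⟨x, hx⟩ := MulAction.exists_smul_eq (Matrix.ProjectiveSpecialLinearGroup (Fin n) F) P Q
  obtain ⟨t, rfl⟩ := QuotientGroup.mk_surjective x
  have hQ : (unitri F n).map β.toMonoidHom =
      (unitri F n).map (semiAut (Matrix.SpecialLinearGroup.toGL t) (RingEquiv.refl F)).toMonoidHom := by
    have h1 := congrArg Sylow.toSubgroup hx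
    rw [Sylow.coe_subgroup_smul] at h1
    rw [show (unitri F n).map β.toMonoidHom = (Q : Subgroup (Matrix.ProjectiveSpecialLinearGroup (Fin n) F)) from rfl, ← h1]
    have hsemi : semiAut (Matrix.SpecialLinearGroup.toGL t) (RingEquiv.refl F) =
        MulAut.conj (QuotientGroup.mk t : Matrix.ProjectiveSpecialLinearGroup (Fin n) F) := by
      refine aut_ext fun s => ?_
      rw [semiAut_mk, MulAut.conj_apply, ← QuotientGroup.mk_inv, ← QuotientGroup.mk_mul, ← QuotientGroup.mk_mul]
      refine congrArg _ (Subtype.ext ?_)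
      have hi : ((Matrix.SpecialLinearGroup.toGL t)⁻¹ : GL (Fin n) F) = Matrix.SpecialLinearGroup.toGL t⁻¹ :=
        (map_inv _ t).symm
      rw [coe_semiFun, hi]
      simp [Matrix.inv_def]
    rw [hsemi]
    rfl
  refine ⟨(stdFlag F hn).semi (Matrix.SpecialLinearGroup.toGL t) (RingEquiv.refl F), ?_⟩
  rw [hQ, ← map_centralizer_inf, centralizer_inf_unitri hn, map_semiAut_rootGroup]

end CfsgLib.AutPSL
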